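import Mathlib.CategoryTheory.Preadditive.Biproducts
import Mathlib.CategoryTheory.Idempotents.Basic
import Mathlib.RingTheory.Artinian.Module
import Mathlib.RingTheory.HopkinsLevitzki
import Mathlib.RingTheory.LocalRing.Basic

/-!
# The Krull–Schmidt theorem for objects with Artinian endomorphism ring

Uniqueness is proved on the level of matrices: an invertible matrix of morphisms between
two families of objects with local endomorphism rings matches the families up to isomorphism
(Gaussian elimination).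
-/

universe v u w

open CategoryTheory Limits

namespace Groth.Agent.KSMod

variable {C : Type u} [Category.{v} C] [Preadditive C]

/-- Nonzero, and in any decomposition one summand is zero. -/
def Indec [HasBinaryBiproducts C] (A : C) : Prop :=
  ¬ IsZero A ∧ ∀ P Q : C, Nonempty (A ≅ P ⊞ Q) → IsZero P ∨ IsZero Q

/-- A right (that is, post-composed) retract of an object with Artinian endomorphism ring has one. -/
theorem isArtinianRing_of_retract {F A : C} (i : A ⟶ F) (p : F ⟶ A) (h : i ≫ p = 𝟙 A)
    [IsArtinianRing (End F)] : IsArtinianRing (End A) := by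
  let L : Ideal (End A) → Ideal (End F) := fun J =>
    Ideal.span ((fun j : End A => End.of (p ≫ End.asHom j ≫ i)) '' J)
  have key : ∀ J, ∀ x ∈ L J, End.of (i ≫ End.asHom x ≫ p) ∈ J := by
    intro J x hx
    induction hx using Submodule.span_induction with
    | mem x hx =>
      obtain ⟨j, hj, rfl⟩ := hx
      suffices e : End.of (i ≫ (p ≫ End.asHom j ≫ i) ≫ p) = j from e.symm ▸ hj
      show i ≫ (p ≫ End.asHom j ≫ i) ≫ p = End.asHom j
      rw [Category.assoc, reassoc_of% h, Category.assoc, h, Category.comp_id]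
    | zero => convert J.zero_mem using 1; show i ≫ (0 : F ⟶ F) ≫ p = 0; simp
    | add x y _ _ hx hy =>
      convert J.add_mem hx hy using 1
      show i ≫ (End.asHom x + End.asHom y) ≫ p = i ≫ End.asHom x ≫ p + i ≫ End.asHom y ≫ p
      simp
    | smul r x hx' hx =>
      -- `r • x` is `x` followed by `r`; every element of `L J` factors through `p` on the left
      suffices H : ∀ x ∈ L J, ∀ r : End F, End.of (i ≫ (End.asHom x ≫ End.asHom r) ≫ p) ∈ J from
        H x hx' r
      intro x hx
      induction hx using Submodule.span_induction with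
      | mem x hx =>
        intro r
        obtain ⟨j, hj, rfl⟩ := hx
        convert J.mul_mem_left (End.of (i ≫ End.asHom r ≫ p)) hj using 1
        show i ≫ ((p ≫ End.asHom j ≫ i) ≫ End.asHom r) ≫ p = End.asHom j ≫ i ≫ End.asHom r ≫ p
        simp only [Category.assoc]
        rw [reassoc_of% h]
      | zero => intro r; convert J.zero_mem using 1; show i ≫ ((0 : F ⟶ F) ≫ End.asHom r) ≫ p = 0; simp
      | add x y _ _ hx hy =>
        intro r
        convert J.add_mem (hx r) (hy r) using 1
        show i ≫ ((End.asHom x + End.asHom y) ≫ End.asHom r) ≫ p = _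
        simp
      | smul s x _ hx =>
        intro r
        convert hx (r * s) using 1
        show i ≫ ((End.asHom x ≫ End.asHom s) ≫ End.asHom r) ≫ p =
          i ≫ (End.asHom x ≫ End.asHom s ≫ End.asHom r) ≫ p
        simp
  have hmono : Monotone L := fun J J' hJ => Ideal.span_mono (Set.image_mono hJ)
  have hinj : Function.Injective L := by
    have back : ∀ J J', L J ≤ L J' → J ≤ J' := by
      intro J J' hle j hj
      have := key J' _ (hle (Ideal.subset_span ⟨j, hj, rfl⟩))
      convert this using 1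
      show End.asHom j = i ≫ (p ≫ End.asHom j ≫ i) ≫ p
      rw [Category.assoc, reassoc_of% h, Category.assoc, h, Category.comp_id]
    exact fun J J' hJ => le_antisymm (back _ _ hJ.le) (back _ _ hJ.ge)
  exact (hmono.strictMono_of_injective hinj).wellFoundedLT

/-- In a ring with Artinian regular module and only trivial idempotents every element is
nilpotent or invertible. -/
theorem isUnit_or_isNilpotent {R : Type*} [Ring R] [IsArtinianRing R]
    (h : ∀ e : R, IsIdempotentElem e → e = 0 ∨ e = 1) (f : R) : IsUnit f ∨ IsNilpotent f := by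
  have hc := LinearMap.eventually_isCompl_ker_pow_range_pow (LinearMap.toSpanSingleton R R f)
  obtain ⟨n, hn⟩ := Filter.eventually_atTop.mp hc
  have hn := hn (n + 1) (Nat.le_succ n)
  set φ := (LinearMap.toSpanSingleton R R f) ^ (n + 1) with hφdef
  have hφ : ∀ r, φ r = r * f ^ (n + 1) := by
    have : ∀ m (r : R), ((LinearMap.toSpanSingleton R R f) ^ m) r = r * f ^ m := by
      intro m
      induction m with
      | zero => simp
      | succ m ih =>
        intro r
        rw [pow_succ', Module.End.mul_apply, ih, LinearMap.toSpanSingleton_apply, smul_eq_mul,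
          pow_succ, _root_.mul_assoc]
    exact this (n + 1)
  obtain ⟨a, ha, b, hb, hab⟩ := Submodule.mem_sup.mp
    (hn.sup_eq_top ▸ Submodule.mem_top : (1 : R) ∈ LinearMap.ker φ ⊔ LinearMap.range φ)
  have haa : a * b ∈ LinearMap.ker φ := by
    have e : a * b = a - a * a := by rw [eq_sub_iff_add_eq, ← mul_add, add_comm, hab, mul_one]
    rw [e]
    exact sub_mem ha (by simpa using (LinearMap.ker φ).smul_mem a ha)
  have hab0 : a * b = 0 :=
    (Submodule.disjoint_def.mp hn.disjoint) _ haa (by simpa using (LinearMap.range φ).smul_mem a hb)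
  have hidem : IsIdempotentElem a := by
    show a * a = a
    conv_rhs => rw [← mul_one a, ← hab, mul_add, hab0, add_zero]
  rcases h a hidem with rfl | rfl
  · left
    rw [zero_add] at hab
    subst hab
    obtain ⟨c, hc⟩ := hb
    rw [hφ] at hc
    have hc' : f ^ (n + 1) * c = 1 := by
      have h0 : (f ^ (n + 1) * c - 1) ∈ LinearMap.ker φ := by
        rw [LinearMap.mem_ker, hφ, sub_mul, _root_.mul_assoc, hc, mul_one, one_mul, sub_self]
      have htop : LinearMap.range φ = ⊤ :=
        eq_top_iff.mpr fun r _ => by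
          simpa using (LinearMap.range φ).smul_mem r (⟨c, by rw [hφ, hc]⟩ : (1 : R) ∈ LinearMap.range φ)
      exact sub_eq_zero.mp ((Submodule.disjoint_def.mp hn.disjoint) _ h0 (htop ▸ Submodule.mem_top))
    exact (isUnit_pow_iff n.succ_ne_zero).mp ⟨⟨f ^ (n + 1), c, hc', hc⟩, rfl⟩
  · exact Or.inr ⟨n + 1, by simpa [hφ] using ha⟩

section Abelian

variable [HasBinaryBiproducts C] [IsIdempotentComplete C]

/-- An idempotent endomorphism gives a decomposition. -/
theorem exists_split {A : C} (e : A ⟶ A) (he : e ≫ e = e) :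
    ∃ (P Q : C) (i : P ⟶ A) (p : A ⟶ P) (i' : Q ⟶ A) (p' : A ⟶ Q),
      i ≫ p = 𝟙 P ∧ p ≫ i = e ∧ i' ≫ p' = 𝟙 Q ∧ p' ≫ i' = 𝟙 A - e ∧ Nonempty (A ≅ P ⊞ Q) := by
  have he' : (𝟙 A - e) ≫ (𝟙 A - e) = 𝟙 A - e := by simp [he]
  obtain ⟨P, i, p, hip, hpi⟩ := IsIdempotentComplete.idempotents_split A e he
  obtain ⟨Q, i', p', hip', hpi'⟩ := IsIdempotentComplete.idempotents_split A _ he'
  refine ⟨P, Q, i, p, i', p', hip, hpi, hip', hpi', ⟨?_⟩⟩
  have hie : i ≫ e = i := by rw [← hpi, reassoc_of% hip]
  have hep : e ≫ p = p := by rw [← hpi, Category.assoc, hip, Category.comp_id]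
  have h1 : i ≫ p' = 0 := by
    have : i ≫ (𝟙 A - e) = 0 := by simp [hie]
    rw [← hpi', ← Category.assoc] at this
    simpa [hip'] using congrArg (· ≫ p') this
  have h2 : i' ≫ p = 0 := by
    have : (𝟙 A - e) ≫ p = 0 := by simp [hep]
    rw [← hpi', Category.assoc] at this
    simpa [reassoc_of% hip'] using congrArg (i' ≫ ·) this
  exact
    { hom := biprod.lift p p'
      inv := biprod.desc i i'
      hom_inv_id := by rw [biprod.lift_desc, hpi, hpi', add_sub_cancel]
      inv_hom_id := by
        ext <;> simp [hip, hip', h1, h2] }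

theorem Indec.idem {A : C} (hA : Indec A) (e : A ⟶ A) (he : e ≫ e = e) : e = 0 ∨ e = 𝟙 A := by
  obtain ⟨P, Q, i, p, i', p', -, hpi, -, hpi', hn⟩ := exists_split e he
  rcases hA.2 P Q hn with h | h
  · exact Or.inl (by rw [← hpi, h.eq_of_tgt p 0, zero_comp])
  · refine Or.inr ?_
    rw [h.eq_of_tgt p' 0, zero_comp] at hpi'
    exact (sub_eq_zero.mp hpi'.symm).symm

omit [IsIdempotentComplete C] in
theorem indec_of_idem {A : C} (h0 : ¬ IsZero A)
    (h : ∀ e : A ⟶ A, e ≫ e = e → e = 0 ∨ e = 𝟙 A) : Indec A := by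
  refine ⟨h0, fun P Q ⟨φ⟩ => ?_⟩
  rcases h (φ.hom ≫ biprod.fst ≫ biprod.inl ≫ φ.inv) (by simp) with h1 | h1
  · left
    rw [IsZero.iff_id_eq_zero]
    simpa using congrArg (fun t => biprod.inl ≫ φ.inv ≫ t ≫ φ.hom ≫ biprod.fst) h1
  · right
    rw [IsZero.iff_id_eq_zero]
    simpa using (congrArg (fun t => biprod.inr ≫ φ.inv ≫ t ≫ φ.hom ≫ biprod.snd) h1).symm

/-- Endomorphisms of an indecomposable object with Artinian endomorphism ring form a local ring. -/
theorem Indec.isLocalRing {A : C} (hA : Indec A) [IsArtinianRing (End A)] : IsLocalRing (End A) := by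
  haveI : Nontrivial (End A) := ⟨⟨0, 1, fun h => hA.1 ((IsZero.iff_id_eq_zero A).mpr h.symm)⟩⟩
  refine IsLocalRing.of_isUnit_or_isUnit_one_sub_self fun f => ?_
  rcases isUnit_or_isNilpotent (fun e he => hA.idem (End.asHom e) he) f with h | h
  · exact Or.inl h
  · exact Or.inr h.isUnit_one_sub

omit [HasBinaryBiproducts C] [IsIdempotentComplete C] in
/-- A finite decomposition as projections and injections. -/
structure Dec (F : C) {ι : Type w} [Fintype ι] (Fs : ι → C) where
  inj : ∀ i, Fs i ⟶ F
  proj : ∀ i, F ⟶ Fs i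
  inj_proj : ∀ i, inj i ≫ proj i = 𝟙 _
  inj_proj_ne : ∀ i j, i ≠ j → inj i ≫ proj j = 0
  total : ∑ i, proj i ≫ inj i = 𝟙 F

/-- Existence: images of idempotents decompose, by induction on the left ideal they generate. -/
theorem exists_dec (F : C) [IsArtinianRing (End F)] :
    ∃ (n : ℕ) (Fs : Fin n → C), (∀ i, Indec (Fs i)) ∧ Nonempty (Dec F Fs) := by
  suffices H : ∀ (J : Ideal (End F)) (A : C) (i : A ⟶ F) (p : F ⟶ A), i ≫ p = 𝟙 A →
      J = Ideal.span {End.of (p ≫ i)} →
      ∃ (n : ℕ) (Fs : Fin n → C), (∀ j, Indec (Fs j)) ∧ Nonempty (Dec A Fs) from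
    H _ F (𝟙 F) (𝟙 F) (Category.id_comp _) rfl
  intro J
  induction J using WellFoundedLT.induction with
  | _ J ih =>
    intro A i p hip hJ
    by_cases h0 : IsZero A
    · exact ⟨0, Fin.elim0, fun j => j.elim0,
        ⟨{ inj := fun j => j.elim0, proj := fun j => j.elim0, inj_proj := fun j => j.elim0,
           inj_proj_ne := fun j => j.elim0, total := h0.eq_of_src _ _ }⟩⟩
    by_cases hA : Indec A
    · exact ⟨1, fun _ => A, fun _ => hA,
        ⟨{ inj := fun _ => 𝟙 A, proj := fun _ => 𝟙 A, inj_proj := fun _ => Category.id_comp _,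
           inj_proj_ne := fun a b hab => absurd (Subsingleton.elim a b) hab,
           total := by simp }⟩⟩
    obtain ⟨e, he, he0, he1⟩ : ∃ e : A ⟶ A, e ≫ e = e ∧ e ≠ 0 ∧ e ≠ 𝟙 A := by
      by_contra hcon
      push Not at hcon
      exact hA (indec_of_idem h0 fun e he => or_iff_not_imp_left.mpr (hcon e he))
    obtain ⟨P, Q, a, b, a', b', hab, hba, hab', hba', -⟩ := exists_split e he
    have step : ∀ (P : C) (a : P ⟶ A) (b : A ⟶ P), a ≫ b = 𝟙 P → b ≫ a ≠ 𝟙 A →
        ∃ (n : ℕ) (Fs : Fin n → C), (∀ j, Indec (Fs j)) ∧ Nonempty (Dec P Fs) := by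
      intro P a b hab hne
      refine ih _ ?_ P (a ≫ i) (p ≫ b) (by rw [Category.assoc, reassoc_of% hip, hab]) rfl
      rw [hJ]
      refine lt_of_le_of_ne (Ideal.span_le.mpr (Set.singleton_subset_iff.mpr ?_)) fun heq => hne ?_
      · refine Ideal.mem_span_singleton'.mpr ⟨End.of ((p ≫ b) ≫ a ≫ i), ?_⟩
        show (p ≫ i) ≫ (p ≫ b) ≫ a ≫ i = (p ≫ b) ≫ a ≫ i
        simp only [Category.assoc, reassoc_of% hip]
      · obtain ⟨x, hx⟩ := Ideal.mem_span_singleton'.mp (heq ▸ Ideal.mem_span_singleton_self _ :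
          End.of (p ≫ i) ∈ Ideal.span {End.of ((p ≫ b) ≫ a ≫ i)})
        change ((p ≫ b) ≫ a ≫ i) ≫ End.asHom x = p ≫ i at hx
        have h1 := congrArg (fun t => (b ≫ a ≫ i) ≫ t ≫ p) hx
        have h2 := congrArg (fun t => i ≫ t ≫ p) hx
        simp only [Category.assoc, reassoc_of% hip, reassoc_of% hab, hip, Category.comp_id] at h1 h2
        rw [← h1, h2]
    obtain ⟨n₁, F₁, h₁, ⟨d₁⟩⟩ := step P a b hab (by rw [hba]; exact he1)
    obtain ⟨n₂, F₂, h₂, ⟨d₂⟩⟩ := step Q a' b' hab' (by rw [hba']; simpa using he0)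
    have hab0 : a ≫ b' = 0 := by
      have : a ≫ (b' ≫ a') = 0 := by
        rw [hba', ← hba, Preadditive.comp_sub, Category.comp_id, reassoc_of% hab, sub_self]
      simpa [hab'] using congrArg (· ≫ b') this
    have hab0' : a' ≫ b = 0 := by
      have : (b' ≫ a') ≫ b = 0 := by
        rw [hba', ← hba, Preadditive.sub_comp, Category.id_comp, Category.assoc, hab,
          Category.comp_id, sub_self]
      simpa [reassoc_of% hab'] using congrArg (a' ≫ ·) this
    refine ⟨n₁ + n₂, Fin.append F₁ F₂, Fin.addCases (fun j => by simpa using h₁ j)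
      (fun j => by simpa using h₂ j), ⟨?_⟩⟩
    exact
      { inj := Fin.addCases (fun j => eqToHom (Fin.append_left _ _ j) ≫ d₁.inj j ≫ a)
          (fun j => eqToHom (Fin.append_right _ _ j) ≫ d₂.inj j ≫ a')
        proj := Fin.addCases (fun j => (b ≫ d₁.proj j) ≫ eqToHom (Fin.append_left _ _ j).symm)
          (fun j => (b' ≫ d₂.proj j) ≫ eqToHom (Fin.append_right _ _ j).symm)
        inj_proj := Fin.addCases (fun j => by simp [reassoc_of% hab, reassoc_of% (d₁.inj_proj j)])
          (fun j => by simp [reassoc_of% hab', reassoc_of% (d₂.inj_proj j)])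
        inj_proj_ne := fun x => by
          induction x using Fin.addCases with
          | left j =>
            intro y
            induction y using Fin.addCases with
            | left l =>
              intro hne
              simp [reassoc_of% hab, reassoc_of% (d₁.inj_proj_ne j l (fun h => hne (by rw [h])))]
            | right l => intro; simp [reassoc_of% hab0]
          | right j =>
            intro y
            induction y using Fin.addCases with
            | left l => intro; simp [reassoc_of% hab0']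
            | right l =>
              intro hne
              simp [reassoc_of% hab', reassoc_of% (d₂.inj_proj_ne j l (fun h => hne (by rw [h])))]
        total := by
          rw [Fin.sum_univ_add]
          simp only [Fin.addCases_left, Fin.addCases_right, Category.assoc, eqToHom_trans_assoc,
            eqToHom_refl, Category.id_comp]
          simp only [← Preadditive.comp_sum, ← Category.assoc (d₁.proj _), ← Category.assoc (d₂.proj _),
            ← Preadditive.sum_comp, d₁.total, d₂.total, Category.id_comp, hba, hba', add_sub_cancel] }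

omit [HasBinaryBiproducts C] [IsIdempotentComplete C] in
/-- An invertible matrix between families with local endomorphism rings matches them. -/
theorem matrix_match : ∀ (n : ℕ) {ι κ : Type w} [Fintype ι] [Fintype κ] [DecidableEq ι]
    [DecidableEq κ], Fintype.card ι = n → ∀ (Fs : ι → C) (Gs : κ → C),
    (∀ i, IsLocalRing (End (Fs i))) → (∀ j, IsLocalRing (End (Gs j))) →
    ∀ (M : ∀ i j, Fs i ⟶ Gs j) (N : ∀ j i, Gs j ⟶ Fs i),
    (∀ i, ∑ j, M i j ≫ N j i = 𝟙 _) → (∀ i i', i ≠ i' → ∑ j, M i j ≫ N j i' = 0) →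
    (∀ j, ∑ i, N j i ≫ M i j = 𝟙 _) → (∀ j j', j ≠ j' → ∑ i, N j i ≫ M i j' = 0) →
    ∃ e : ι ≃ κ, ∀ i, Nonempty (Fs i ≅ Gs (e i)) := by
  intro n
  induction n with
  | zero =>
    intro ι κ _ _ _ _ hn Fs Gs hF hG M N h1 h2 h3 h4
    haveI : IsEmpty ι := Fintype.card_eq_zero_iff.mp hn
    haveI : IsEmpty κ := ⟨fun j => by
      haveI := hG j
      exact one_ne_zero (α := End (Gs j)) ((h3 j).symm.trans (by simp))⟩
    exact ⟨Equiv.equivOfIsEmpty ι κ, fun i => isEmptyElim i⟩
  | succ n ih =>
    intro ι κ _ _ _ _ hn Fs Gs hF hG M N h1 h2 h3 h4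
    obtain ⟨i₀⟩ : Nonempty ι := Fintype.card_pos_iff.mp (by omega)
    haveI := hF i₀
    obtain ⟨j₀, hj₀⟩ : ∃ j, IsUnit (End.of (M i₀ j ≫ N j i₀) : End (Fs i₀)) := by
      by_contra hcon
      push Not at hcon
      have : (1 : End (Fs i₀)) ∈ nonunits (End (Fs i₀)) := by
        rw [show (1 : End (Fs i₀)) = ∑ j, End.of (M i₀ j ≫ N j i₀) from (h1 i₀).symm]
        exact Finset.sum_induction _ _ (fun a b => IsLocalRing.nonunits_add)
          (mem_nonunits_iff.mpr not_isUnit_zero) fun j _ => hcon j
      exact this isUnit_one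
    haveI := hG j₀
    haveI : IsIso (M i₀ j₀ ≫ N j₀ i₀) := (isUnit_iff_isIso _).mp hj₀
    set a := M i₀ j₀ with ha
    set s := N j₀ i₀ ≫ inv (a ≫ N j₀ i₀) with hs
    have has : a ≫ s = 𝟙 _ := by rw [hs, ← Category.assoc]; exact IsIso.hom_inv_id _
    have hsa : s ≫ a = 𝟙 _ := by
      rcases IsLocalRing.isUnit_or_isUnit_of_add_one
          (add_sub_cancel (End.of (s ≫ a) : End (Gs j₀)) 1) with hu | hu
      · haveI : IsIso (s ≫ a) := (isUnit_iff_isIso _).mp hu
        rw [← cancel_epi (s ≫ a), Category.assoc, reassoc_of% has, Category.comp_id]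
      · haveI : IsIso (𝟙 (Gs j₀) - s ≫ a) := (isUnit_iff_isIso _).mp hu
        have h : (𝟙 (Gs j₀) - s ≫ a) ≫ s = 0 := by simp [has]
        have hs0 : s = 0 := (cancel_epi (𝟙 (Gs j₀) - s ≫ a)).mp (h.trans comp_zero.symm)
        rw [hs0, comp_zero] at has
        exact absurd has (fun h' => zero_ne_one (α := End (Fs i₀)) h')
    let M' : ∀ (i : {i // i ≠ i₀}) (j : {j // j ≠ j₀}), Fs i ⟶ Gs j := fun i j =>
      M i j - M i j₀ ≫ s ≫ M i₀ j
    have key1 : ∀ (i i' : {i // i ≠ i₀}), ∑ j : {j // j ≠ j₀}, M' i j ≫ N j i' =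
        ∑ j, M i j ≫ N j i' := by
      intro i i'
      have hz := h2 i₀ i'.1 i'.2.symm
      rw [Fintype.sum_eq_add_sum_compl j₀, ← ha] at hz
      rw [Fintype.sum_eq_add_sum_compl j₀ (fun j => M i.1 j ≫ N j i'.1)]
      simp only [M', Preadditive.sub_comp, Finset.sum_sub_distrib, Category.assoc, ← Preadditive.comp_sum]
      have hc : ∀ (A B : C) (f : ∀ j, A ⟶ Gs j) (g : ∀ j, Gs j ⟶ B),
          ∑ j : {j // j ≠ j₀}, f j.1 ≫ g j.1 = ∑ j ∈ ({j₀} : Finset κ)ᶜ, f j ≫ g j := fun A B f g =>
        (Finset.sum_subtype _ (fun x => by simp) (fun j => f j ≫ g j)).symm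
      rw [hc _ _ (fun j => M i.1 j) (fun j => N j i'.1), hc _ _ (fun j => M i₀ j) (fun j => N j i'.1),
        eq_neg_of_add_eq_zero_right hz, Preadditive.comp_neg, Preadditive.comp_neg,
        reassoc_of% hsa, sub_neg_eq_add, add_comm]
    have key2 : ∀ (j j' : {j // j ≠ j₀}), ∑ i : {i // i ≠ i₀}, N j i ≫ M' i j' =
        ∑ i, N j i ≫ M i j' := by
      intro j j'
      have hz := h4 j.1 j₀ j.2
      rw [Fintype.sum_eq_add_sum_compl i₀, ← ha] at hz
      rw [Fintype.sum_eq_add_sum_compl i₀ (fun i => N j.1 i ≫ M i j'.1)]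
      have hc : ∀ (A B : C) (f : ∀ i, A ⟶ Fs i) (g : ∀ i, Fs i ⟶ B),
          ∑ i : {i // i ≠ i₀}, f i.1 ≫ g i.1 = ∑ i ∈ ({i₀} : Finset ι)ᶜ, f i ≫ g i := fun A B f g =>
        (Finset.sum_subtype _ (fun x => by simp) (fun i => f i ≫ g i)).symm
      simp only [M', Preadditive.comp_sub, Finset.sum_sub_distrib, ← Category.assoc, ← Preadditive.sum_comp]
      rw [hc _ _ (fun i => N j.1 i) (fun i => M i j'.1), hc _ _ (fun i => N j.1 i) (fun i => M i j₀),
        eq_neg_of_add_eq_zero_right hz, Preadditive.neg_comp, Preadditive.neg_comp,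
        Category.assoc (N j.1 i₀), has, Category.comp_id, sub_neg_eq_add, add_comm]
    obtain ⟨e, he⟩ := ih (ι := {i // i ≠ i₀}) (κ := {j // j ≠ j₀})
      (by rw [Fintype.card_subtype_compl, Fintype.card_subtype_eq, hn]; omega)
      (fun i => Fs i) (fun j => Gs j) (fun i => hF i) (fun j => hG j) M' (fun j i => N j i)
      (fun i => (key1 i i).trans (h1 i))
      (fun i i' hne => (key1 i i').trans (h2 i i' (fun h => hne (Subtype.ext h))))
      (fun j => (key2 j j).trans (h3 j))
      (fun j j' hne => (key2 j j').trans (h4 j j' (fun h => hne (Subtype.ext h))))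
    refine ⟨(Equiv.optionSubtypeNe i₀).symm.trans ((Equiv.optionCongr e).trans (Equiv.optionSubtypeNe j₀)),
      fun i => ?_⟩
    by_cases hi : i = i₀
    · subst hi
      simpa using ⟨(⟨a, s, has, hsa⟩ : Fs i ≅ Gs j₀)⟩
    · simpa [Equiv.optionSubtypeNe_symm_of_ne hi] using he ⟨i, hi⟩

/-- Uniqueness. -/
theorem dec_unique {F : C} [IsArtinianRing (End F)] {ι κ : Type w} [Fintype ι] [Fintype κ]
    {Fs : ι → C} {Gs : κ → C} (hF : ∀ i, Indec (Fs i)) (hG : ∀ j, Indec (Gs j))
    (d : Dec F Fs) (d' : Dec F Gs) : ∃ e : ι ≃ κ, ∀ i, Nonempty (Fs i ≅ Gs (e i)) := by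
  classical
  refine matrix_match _ rfl Fs Gs (fun i => ?_) (fun j => ?_)
    (fun i j => d.inj i ≫ d'.proj j) (fun j i => d'.inj j ≫ d.proj i) ?_ ?_ ?_ ?_
  · haveI := isArtinianRing_of_retract _ _ (d.inj_proj i); exact (hF i).isLocalRing
  · haveI := isArtinianRing_of_retract _ _ (d'.inj_proj j); exact (hG j).isLocalRing
  · intro i
    simp only [Category.assoc, ← Preadditive.comp_sum]
    simp only [← Category.assoc (d'.proj _), ← Preadditive.sum_comp, d'.total, Category.id_comp, d.inj_proj]
  · intro i i' h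
    simp only [Category.assoc, ← Preadditive.comp_sum]
    simp only [← Category.assoc (d'.proj _), ← Preadditive.sum_comp, d'.total, Category.id_comp, d.inj_proj_ne i i' h]
  · intro j
    simp only [Category.assoc, ← Preadditive.comp_sum]
    simp only [← Category.assoc (d.proj _), ← Preadditive.sum_comp, d.total, Category.id_comp, d'.inj_proj]
  · intro j j' h
    simp only [Category.assoc, ← Preadditive.comp_sum]
    simp only [← Category.assoc (d.proj _), ← Preadditive.sum_comp, d.total, Category.id_comp, d'.inj_proj_ne j j' h]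

omit [IsIdempotentComplete C] [HasBinaryBiproducts C] in
/-- A decomposition is an isomorphism with the coproduct. -/
noncomputable def Dec.iso {F : C} {ι : Type} [Fintype ι] {Fs : ι → C} [HasBiproduct Fs]
    (d : Dec F Fs) : F ≅ ⨁ Fs where
  hom := biproduct.lift d.proj
  inv := biproduct.desc d.inj
  hom_inv_id := biproduct.lift_desc.trans d.total
  inv_hom_id := by
    ext i j
    by_cases h : i = j
    · subst h; simp [d.inj_proj]
    · simp [d.inj_proj_ne _ _ h, d.inj_proj_ne _ _ (Ne.symm h), biproduct.ι_π_ne _ h, biproduct.ι_π_ne _ (Ne.symm h)]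

omit [IsIdempotentComplete C] [HasBinaryBiproducts C] in
/-- An isomorphism with the coproduct is a decomposition. -/
noncomputable def Dec.ofIso {F : C} {ι : Type} [Fintype ι] {Fs : ι → C} [HasBiproduct Fs]
    (e : F ≅ ⨁ Fs) : Dec F Fs where
  inj i := biproduct.ι Fs i ≫ e.inv
  proj i := e.hom ≫ biproduct.π Fs i
  inj_proj i := by simp
  inj_proj_ne i j h := by simp [biproduct.ι_π_ne _ h]
  total := by
    classical
    simp only [Category.assoc, ← Preadditive.comp_sum]
    simp only [← Category.assoc (biproduct.π Fs _), ← Preadditive.sum_comp, biproduct.total,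
      Category.id_comp, Iso.hom_inv_id]

end Abelian

end Groth.Agent.KSMod
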