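import Groth.Agent.HomShQC.Basic
import Groth.Agent.HomShQC.Stalk
import Groth.Agent.S0002
import Groth.Agent.KSMod.KrullSchmidt
import Groth.Prelude.Def_RefHull
import Mathlib.AlgebraicGeometry.Morphisms.Proper

/-!
# Endomorphisms of a coherent module on a proper scheme form a finite algebra
-/

set_option autoImplicit false
universe u

open CategoryTheory CategoryTheory.Limits AlgebraicGeometry Opposite TopologicalSpace

noncomputable section

namespace Groth.Agent.KSMod

variable {X : Scheme.{u}}

/-- Restriction of a global function. -/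
abbrev rtop (X : Scheme.{u}) (U : X.Opens) : Γ(X, ⊤) →+* Γ(X, U) :=
  (X.presheaf.map (homOfLE le_top).op).hom

theorem rtop_res {U V : X.Opens} (i : V ⟶ U) (r : Γ(X, ⊤)) :
    X.presheaf.map i.op (rtop X U r) = rtop X V r := by
  change (X.presheaf.map _ ≫ X.presheaf.map i.op).hom r = _
  rw [← Functor.map_comp]
  rfl

theorem rtop_smul_comm (M : X.Modules) (r : Γ(X, ⊤)) (U : X.Opens) (a : Γ(X, U)) (m : Γ(M, U)) :
    rtop X U r • (a • m) = a • (rtop X U r • m) := by
  rw [smul_smul, smul_smul, mul_comm]

/-- Multiplication by a global function. -/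
def scal (M : X.Modules) (r : Γ(X, ⊤)) : M ⟶ M :=
  ⟨PresheafOfModules.homMk
    { app := fun U => AddCommGrpCat.ofHom
        (DistribSMul.toAddMonoidHom Γ(M, U.unop) (rtop X U.unop r))
      naturality := fun U V i => by
        ext (m : Γ(M, U.unop))
        change rtop X V.unop r • (M.presheaf.map i.unop.op m : Γ(M, V.unop)) =
          M.presheaf.map i.unop.op (rtop X U.unop r • m)
        rw [Scheme.Modules.map_smul, rtop_res] }
    (fun U a m => rtop_smul_comm M r U.unop a m)⟩

theorem scal_app (M : X.Modules) (r : Γ(X, ⊤)) (U : X.Opens) (m : Γ(M, U)) :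
    (scal M r).app U m = rtop X U r • m := rfl

theorem scal_nat {M N : X.Modules} (φ : M ⟶ N) (r : Γ(X, ⊤)) : scal M r ≫ φ = φ ≫ scal N r := by
  refine Scheme.Modules.hom_ext _ _ fun U => ?_
  ext m
  change φ.app U ((scal M r).app U m) = (scal N r).app U (φ.app U m)
  rw [scal_app, scal_app, Scheme.Modules.Hom.app_smul]

/-- Multiplication by global functions as a map of rings. -/
def scalHom (M : X.Modules) : Γ(X, ⊤) →+* End M where
  toFun r := End.of (scal M r)
  map_one' := by
    refine Scheme.Modules.hom_ext _ _ fun U => ?_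
    ext m
    change rtop X U 1 • m = m
    rw [map_one, one_smul]
  map_mul' a b := by
    refine Scheme.Modules.hom_ext _ _ fun U => ?_
    ext m
    change rtop X U (a * b) • m = rtop X U a • rtop X U b • m
    rw [map_mul, mul_smul]
  map_zero' := by
    refine Scheme.Modules.hom_ext _ _ fun U => ?_
    ext m
    change rtop X U 0 • m = 0
    rw [map_zero, zero_smul]
  map_add' a b := by
    refine Scheme.Modules.hom_ext _ _ fun U => ?_
    ext m
    change rtop X U (a + b) • m = rtop X U a • m + rtop X U b • m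
    rw [map_add, add_smul]

theorem scalHom_commutes (M : X.Modules) (r : Γ(X, ⊤)) (f : End M) :
    scalHom M r * f = f * scalHom M r := (scal_nat (End.asHom f) r).symm

/-- The map from endomorphisms to global sections of the sheaf Hom. -/
theorem ofHom_top_injective (F G : X.Modules) :
    Function.Injective fun φ : F ⟶ G => RefHull.ofHom φ ⊤ := by
  intro φ ψ h
  refine Scheme.Modules.hom_ext _ _ fun U => ?_
  ext m
  refine TopCat.Presheaf.section_ext ⟨_, G.isSheaf⟩ U _ _ fun y hy => ?_
  have h1 : RefHull.stalkMapₗ φ y = RefHull.stalkMapₗ ψ y :=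
    congrFun (congrArg Subtype.val h) ⟨y, trivial⟩
  change G.presheaf.germ U y hy _ = G.presheaf.germ U y hy _
  rw [← RefHull.stalkMapₗ_germ, ← RefHull.stalkMapₗ_germ, h1]

variable (k : Type u) [Field k]

/-- The structure map on global functions. -/
def kTop (p : X ⟶ Spec (CommRingCat.of k)) : k →+* Γ(X, ⊤) :=
  Coh.toGlobal p

theorem finite_top [X.Over (Spec (CommRingCat.of k))] [IsProper (X ↘ Spec (CommRingCat.of k))]
    (M : X.Modules) (hM : Coh.IsCoh M) :
    letI : Module k Γ(M, ⊤) := Module.compHom _ (kTop k (X ↘ Spec (CommRingCat.of k)))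
    Module.Finite k Γ(M, ⊤) := by
  letI : Module k Γ(M, ⊤) := Module.compHom _ (kTop k (X ↘ Spec (CommRingCat.of k)))
  haveI := Groth.Agent.S0002.result k X M hM 0
  let e : Coh.HH X M 0 ≃ₗ[k] Γ(M, ⊤) :=
    { Sheaf.H.equiv₀ (Coh.toAb M) CategoryTheory.Limits.isTerminalTop with
      map_smul' := fun a x => by
        show Sheaf.H.equiv₀ (Coh.toAb M) CategoryTheory.Limits.isTerminalTop
          (Sheaf.H.map (Coh.smulAb M (Coh.toGlobal (X ↘ Spec (CommRingCat.of k)) a)) 0 x) = _
        rw [← Sheaf.H.equiv₀_naturality, Coh.smulAb_app]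
        congr 1
        exact congrArg (fun q : X.ringCatSheaf.obj.obj (op ⊤) ⟶ _ => q.hom _)
          (X.ringCatSheaf.obj.map_id (op ⊤)) }
  exact Module.Finite.equiv e

/-- Endomorphisms as an algebra over the base field. -/
abbrev endAlgebra (p : X ⟶ Spec (CommRingCat.of k)) (F : X.Modules) : Algebra k (End F) :=
  ((scalHom F).comp (kTop k p)).toAlgebra' fun c f => scalHom_commutes F (kTop k p c) f

theorem finite_end (p : X ⟶ Spec (CommRingCat.of k)) [IsProper p] (F : X.Modules) (hF : Coh.IsCoh F) :
    letI := endAlgebra k p F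
    Module.Finite k (End F) := by
  letI := endAlgebra k p F
  letI : X.Over (Spec (CommRingCat.of k)) := ⟨p⟩
  haveI : IsProper (X ↘ Spec (CommRingCat.of k)) := ‹IsProper p›
  haveI : IsLocallyNoetherian X := LocallyOfFiniteType.isLocallyNoetherian p
  letI : Module k Γ(RefHull.homSh F F, ⊤) :=
    Module.compHom _ (kTop k (X ↘ Spec (CommRingCat.of k)))
  haveI := finite_top k (RefHull.homSh F F) (Groth.Agent.HomShQC.isCoh_homSh F F hF hF)
  let Φ : End F →ₗ[k] Γ(RefHull.homSh F F, ⊤) :=
    { toFun := fun f => RefHull.ofHom (End.asHom f) ⊤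
      map_add' := fun f g => Subtype.ext (funext fun y => LinearMap.ext fun v => by
        obtain ⟨U, hy, m, rfl⟩ := TopCat.Presheaf.exists_germ_eq F.presheaf v
        change RefHull.stalkMapₗ (End.asHom f + End.asHom g) y.1 _ =
          RefHull.stalkMapₗ (End.asHom f) y.1 _ + RefHull.stalkMapₗ (End.asHom g) y.1 _
        rw [RefHull.stalkMapₗ_germ, RefHull.stalkMapₗ_germ, RefHull.stalkMapₗ_germ]
        exact map_add (F.presheaf.germ U y.1 hy).hom _ _)
      map_smul' := fun c f => Subtype.ext (funext fun y => LinearMap.ext fun v => by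
        obtain ⟨U, hy, m, rfl⟩ := TopCat.Presheaf.exists_germ_eq F.presheaf v
        change RefHull.stalkMapₗ (End.asHom f ≫ scal F (kTop k p c)) y.1 _ =
          X.presheaf.germ ⊤ y.1 trivial (kTop k p c) • RefHull.stalkMapₗ (End.asHom f) y.1 _
        rw [RefHull.stalkMapₗ_germ, RefHull.stalkMapₗ_germ]
        change F.presheaf.germ U y.1 hy (rtop X U (kTop k p c) • (End.asHom f).app U m) = _
        rw [Mero.germ_smul]
        congr 1
        exact X.presheaf.germ_res_apply (homOfLE le_top) y.1 hy _) }
  exact Module.Finite.of_injective Φ (ofHom_top_injective F F)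

theorem isArtinianRing_end (p : X ⟶ Spec (CommRingCat.of k)) [IsProper p] (F : X.Modules)
    (hF : Coh.IsCoh F) : IsArtinianRing (End F) := by
  letI := endAlgebra k p F
  haveI := finite_end k p F hF
  exact IsArtinianRing.of_finite k (End F)

instance : IsIdempotentComplete X.Modules := inferInstance

end Groth.Agent.KSMod
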