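import Groth.Agent.KSMod.FieldBC
import Groth.Agent.VBLib.Basic
import Groth.Agent.InjMod.QCohInj
import Groth.Agent.CohDev.Coh
import Groth.Agent.FreeAlong.Stalk
import Groth.Agent.S1688
import Groth.Agent.EulerChar.Rank
import Groth.Agent.EulerChar.Curve
import Groth.Agent.ProjTwist.Tensor
import Groth.Agent.FDesc.QuasiFlat
import Groth.Agent.ZClosLib.CohDescent
import Mathlib.RingTheory.LocalRing.Module
import Mathlib.AlgebraicGeometry.Geometrically.Integral

/-!
# Isotypic locally free modules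
-/

set_option autoImplicit false
universe v u

open CategoryTheory CategoryTheory.Limits AlgebraicGeometry Opposite TopologicalSpace

noncomputable section

namespace Groth.Agent.KSMod

section Generic

variable {C : Type u} [Category.{v} C] [Preadditive C]

/-- With local endomorphism ring, a retract of a sum is a retract of a summand. -/
theorem exists_retract_of_sum {H : C} [IsLocalRing (End H)] {J : Type*} (t : Finset J) (Ls : J → C)
    (x : ∀ c, H ⟶ Ls c) (y : ∀ c, Ls c ⟶ H) (h : ∑ c ∈ t, x c ≫ y c = 𝟙 H) :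
    ∃ c ∈ t, ∃ y' : Ls c ⟶ H, x c ≫ y' = 𝟙 H := by
  obtain ⟨c, hc, hu⟩ : ∃ c ∈ t, IsUnit (End.of (x c ≫ y c) : End H) := by
    by_contra hcon
    push Not at hcon
    have : (1 : End H) ∈ nonunits (End H) := by
      rw [show (1 : End H) = ∑ c ∈ t, End.of (x c ≫ y c) from h.symm]
      exact Finset.sum_induction _ _ (fun a b => IsLocalRing.nonunits_add)
        (mem_nonunits_iff.mpr not_isUnit_zero) hcon
    exact this isUnit_one
  haveI : IsIso (x c ≫ y c) := (isUnit_iff_isIso _).mp hu
  exact ⟨c, hc, y c ≫ inv (x c ≫ y c), by rw [← Category.assoc]; exact IsIso.hom_inv_id _⟩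

/-- A nonzero element of a ring without nontrivial idempotents is invertible once `1` is a
sum of elements `a f b` in a local ring. -/
theorem isUnit_of_generates {R : Type*} [Ring R] [IsLocalRing R]
    (hid : ∀ e : R, IsIdempotentElem e → e = 0 ∨ e = 1) {f : R} {J : Type*} (t : Finset J)
    (a b : J → R) (h : ∑ i ∈ t, a i * f * b i = 1) : IsUnit f := by
  obtain ⟨i, -, hu⟩ : ∃ i ∈ t, IsUnit (a i * f * b i) := by
    by_contra hcon
    push Not at hcon
    have : (1 : R) ∈ nonunits R := h ▸ Finset.sum_induction _ _ (fun a b => IsLocalRing.nonunits_add)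
        (mem_nonunits_iff.mpr not_isUnit_zero) hcon
    exact this isUnit_one
  obtain ⟨u, hu⟩ := hu
  set x := (↑u⁻¹ : R) * a i with hx
  set y := b i
  have hxy : x * f * y = 1 := by
    rw [hx, _root_.mul_assoc, _root_.mul_assoc, ← _root_.mul_assoc (a i), ← hu, Units.inv_mul]
  have h1 : f * y * x = 1 := (hid _ (by
    show f * y * x * (f * y * x) = f * y * x
    calc f * y * x * (f * y * x) = f * y * (x * f * y) * x := by noncomm_ring
      _ = f * y * x := by rw [hxy, mul_one])).resolve_left fun h0 => by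
    have e : x * f * y * (x * f * y) = x * (f * y * x) * f * y := by noncomm_ring
    rw [hxy, h0, mul_zero, zero_mul, zero_mul, mul_one] at e
    exact one_ne_zero e
  have h2 : y * x * f = 1 := (hid _ (by
    show y * x * f * (y * x * f) = y * x * f
    calc y * x * f * (y * x * f) = y * (x * f * y) * x * f := by noncomm_ring
      _ = y * x * f := by rw [hxy, mul_one])).resolve_left fun h0 => by
    have e : x * f * y * (x * f * y) = x * f * (y * x * f) * y := by noncomm_ring
    rw [hxy, h0, mul_zero, zero_mul, mul_one] at e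
    exact one_ne_zero e
  exact ⟨⟨f, y * x, by rw [← _root_.mul_assoc]; exact h1, h2⟩, rfl⟩

end Generic

variable {X : Scheme.{u}}

/-- Retracts of coherent modules are coherent. -/
theorem isCoh_of_retract {M N : X.Modules} (i : M ⟶ N) (r : N ⟶ M) (h : i ≫ r = 𝟙 M)
    (hN : Coh.IsCoh N) : Coh.IsCoh M :=
  haveI : IsSplitEpi r := ⟨⟨⟨i, h⟩⟩⟩
  CohDev.isCoh_of_epi r hN (InjMod.isQCoh_of_retract i r h hN.1)

/-- Retracts of finite locally free modules are finite locally free. -/
theorem isFinLocFree_of_retract [IsLocallyNoetherian X] {M N : X.Modules} (i : M ⟶ N) (r : N ⟶ M)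
    (h : i ≫ r = 𝟙 M) (hN : FlatMod.IsFinLocFree N) : FlatMod.IsFinLocFree M := by
  have hM : Coh.IsCoh M := isCoh_of_retract i r h (VBLib.isCoh_of_isFinLocFree hN)
  refine (Groth.Agent.S1688.finLocFree_iff M hM).mpr fun x => ?_
  haveI := (VBLib.isCoh_of_isFinLocFree hN).1
  haveI := (Groth.Agent.Props.QProj.free_stalk N hN x).1
  haveI := FreeAlong.projective_stalk_of_retract i r h x
  haveI := Groth.Agent.FDesc.QuasiFlat.finite_stalk_of_isCoh M hM x
  exact Module.free_of_flat_of_isLocalRing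

/-- Endomorphisms of an invertible module on an integral scheme form a domain. -/
theorem comp_eq_zero [IsIntegral X] {L : X.Modules} (hL : PicF.IsInvertible L) (g h : L ⟶ L)
    (e : g ≫ h = 0) : g = 0 ∨ h = 0 := by
  by_cases hh : h = 0
  · exact Or.inr hh
  · haveI := EulerChar.mono_of_ne_zero hL hL h hh
    exact Or.inl ((cancel_mono h).mp (e.trans zero_comp.symm))

open W4c1astiltbs12

variable {k : Type u} [Field k] (p : X ⟶ Spec (CommRingCat.of k)) [IsProper p]
  (K : Type u) [Field K] [Algebra k K]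

include p in
theorem isLocallyNoetherian : IsLocallyNoetherian X := LocallyOfFiniteType.isLocallyNoetherian p

theorem isCoh_bcMod {E : X.Modules} (hE : Coh.IsCoh E) : Coh.IsCoh (bcMod p K E) :=
  ZClosLib.CohDescent.isCoh_pullback _ _ hE

/-- Components through which the identity of an isotypic module factors. -/
def powDec {Y : Scheme.{u}} {W M : Y.Modules} {r : ℕ} (e : M ≅ pow W r) :
    Dec M (fun _ : Fin r => W) :=
  haveI : HasFiniteBiproducts Y.Modules := Abelian.hasFiniteBiproducts
  Dec.ofIso (e ≪≫ (biproduct.isoCoproduct _).symm)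

theorem pos_of_dec {Y : Scheme.{u}} {M : Y.Modules} {r : ℕ} {Ws : Fin r → Y.Modules}
    (d : Dec M Ws) (hM : ¬ IsZero M) : 0 < r := by
  by_contra hr
  obtain rfl : r = 0 := by omega
  exact hM ((IsZero.iff_id_eq_zero M).mpr (d.total.symm.trans (by simp)))

/-- Indecomposable modules with the same isotype are isomorphic. -/
theorem indecomposable_unique (W : (W4bk4gw11416.baseChange p K).Modules) {E E' : X.Modules}
    (hE : Coh.IsCoh E) (hE' : Coh.IsCoh E') (hEi : Indec E) (hE'i : Indec E') {r s : ℕ}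
    (dE : Dec (bcMod p K E) (fun _ : Fin r => W)) (dE' : Dec (bcMod p K E') (fun _ : Fin s => W)) :
    Nonempty (E ≅ E') := by
  have hs := pos_of_dec dE' (not_isZero_bcMod p K hE' hE'i.1)
  obtain ⟨-, -, φ, γ, h⟩ := exists_retract p K hE hEi Finset.univ (fun _ : Fin r => E') (fun _ => hE')
    (fun c => dE.proj c ≫ dE'.inj ⟨0, hs⟩) (fun c => dE'.proj ⟨0, hs⟩ ≫ dE.inj c)
    (Eq.trans (Finset.sum_congr rfl fun c _ => by
      rw [Category.assoc, reassoc_of% (dE'.inj_proj ⟨0, hs⟩)]) dE.total)
  exact iso_of_retract hEi.1 hE'i φ γ h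

/-- A nonzero coherent retract of a power of a module with local endomorphisms retracts onto it. -/
theorem exists_retract_onto {Y : Scheme.{u}} {q : Y ⟶ Spec (CommRingCat.of K)} [IsProper q]
    {M L : Y.Modules} (hM : Coh.IsCoh M) (hM0 : ¬ IsZero M) (hL : Indec L) {r : ℕ}
    (x : Fin r → (M ⟶ L)) (y : Fin r → (L ⟶ M)) (h : ∑ c, x c ≫ y c = 𝟙 M) :
    ∃ (u : L ⟶ M) (v : M ⟶ L), u ≫ v = 𝟙 L := by
  haveI := isArtinianRing_end K q M hM
  obtain ⟨n, Hs, hHs, ⟨d⟩⟩ := exists_dec M
  have hn := pos_of_dec d hM0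
  let i : Fin n := ⟨0, hn⟩
  haveI := isArtinianRing_of_retract _ _ (d.inj_proj i)
  haveI := (hHs i).isLocalRing
  obtain ⟨c, -, y', hy'⟩ := exists_retract_of_sum Finset.univ (fun _ => L)
    (fun c => d.inj i ≫ x c) (fun c => y c ≫ d.proj i) (by
      simp only [Category.assoc, ← Preadditive.comp_sum]
      simp only [← Category.assoc (x _), ← Preadditive.sum_comp, h, Category.id_comp, d.inj_proj])
  obtain ⟨e⟩ := iso_of_retract (hHs i).1 hL _ _ hy'
  exact ⟨e.inv ≫ d.inj i, d.proj i ≫ e.hom, by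
    rw [Category.assoc, reassoc_of% (d.inj_proj i), Iso.inv_hom_id]⟩

/-- The indecomposable summands of an isotypic module with indecomposable type are isomorphic. -/
theorem summands_iso {E G G' : X.Modules} (hE : Coh.IsCoh E)
    {L : (W4bk4gw11416.baseChange p K).Modules} (hL : Indec L) {r : ℕ}
    (dE : Dec (bcMod p K E) (fun _ : Fin r => L))
    (hG : Indec G) (i : G ⟶ E) (π : E ⟶ G) (h : i ≫ π = 𝟙 G)
    (hG' : Indec G') (i' : G' ⟶ E) (π' : E ⟶ G') (h' : i' ≫ π' = 𝟙 G') : Nonempty (G ≅ G') := by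
  have hGc := isCoh_of_retract i π h hE
  have hG'c := isCoh_of_retract i' π' h' hE
  let P := Scheme.Modules.pullback (proj p K)
  have hsum : ∀ {G : X.Modules} (i : G ⟶ E) (π : E ⟶ G), i ≫ π = 𝟙 G →
      ∑ c, (P.map i ≫ dE.proj c) ≫ dE.inj c ≫ P.map π = 𝟙 (bcMod p K G) := by
    intro G i π h
    simp only [Category.assoc, ← Preadditive.comp_sum]
    simp only [← Category.assoc (dE.proj _), ← Preadditive.sum_comp, dE.total, Category.id_comp,
      ← Functor.map_comp, h, P]
    exact CategoryTheory.Functor.map_id _ _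
  obtain ⟨u, v, huv⟩ := exists_retract_onto (K := K) (q := W4bk4gw11416.baseChangeTo p K)
    (isCoh_bcMod p K hG'c) (not_isZero_bcMod p K hG'c hG'.1) hL
    (fun c => P.map i' ≫ dE.proj c) (fun c => dE.inj c ≫ P.map π') (hsum i' π' h')
  obtain ⟨-, -, φ, γ, hφ⟩ := exists_retract p K hGc hG Finset.univ (fun _ : Fin r => G') (fun _ => hG'c)
    (fun c => (P.map i ≫ dE.proj c) ≫ u) (fun c => v ≫ dE.inj c ≫ P.map π)
    (Eq.trans (Finset.sum_congr rfl fun c _ => by
      rw [Category.assoc _ u, reassoc_of% huv]) (hsum i π h))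
  exact iso_of_retract hG.1 hG' φ γ hφ

/-- If every nonzero endomorphism of the type is invertible, every nonzero endomorphism of an
isotypic module generates the unit two-sided ideal. -/
theorem generates_of_isIso {E : X.Modules} (hE : Coh.IsCoh E)
    {L : (W4bk4gw11416.baseChange p K).Modules} (hL : ∀ g : L ⟶ L, g ≠ 0 → IsIso g) {r : ℕ}
    (dE : Dec (bcMod p K E) (fun _ : Fin r => L)) (f : E ⟶ E) (hf : f ≠ 0) :
    ∃ (n : ℕ) (x y : Fin n → (E ⟶ E)), ∑ i, x i ≫ f ≫ y i = 𝟙 E := by
  classical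
  haveI := hE.1
  haveI := hE.2
  haveI := compactSpace p
  let Y := W4bk4gw11416.baseChange p K
  let q := W4bk4gw11416.baseChangeTo p K
  let P := Scheme.Modules.pullback (proj p K)
  have hfK : P.map f ≠ 0 := fun h => hf (bcMod_map_eq_zero p K E E hE f h)
  -- an isomorphism entry
  obtain ⟨a, b, hab⟩ : ∃ a b, dE.inj a ≫ P.map f ≫ dE.proj b ≠ 0 := by
    by_contra hcon
    push Not at hcon
    refine hfK ?_
    calc P.map f = (∑ a, dE.proj a ≫ dE.inj a) ≫ P.map f ≫ ∑ b, dE.proj b ≫ dE.inj b := by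
          rw [dE.total, Category.id_comp, Category.comp_id]
      _ = 0 := by
          simp only [Preadditive.sum_comp, Preadditive.comp_sum, Category.assoc]
          refine Finset.sum_eq_zero fun a _ => Finset.sum_eq_zero fun b _ => ?_
          simp only [← Category.assoc (dE.inj _), ← Category.assoc (dE.inj _ ≫ _)]
          simp [hcon]
  haveI : IsIso (dE.inj a ≫ P.map f ≫ dE.proj b) := hL _ hab
  set lam := dE.inj a ≫ P.map f ≫ dE.proj b
  let A : Fin r → (bcMod p K E ⟶ bcMod p K E) := fun c => dE.proj c ≫ inv lam ≫ dE.inj a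
  let B : Fin r → (bcMod p K E ⟶ bcMod p K E) := fun c => dE.proj b ≫ dE.inj c
  have hAB : ∑ c, A c ≫ P.map f ≫ B c = 𝟙 _ := by
    refine Eq.trans (Finset.sum_congr rfl fun c _ => ?_) dE.total
    simp only [A, B, Category.assoc]
    rw [show dE.inj a ≫ P.map f ≫ dE.proj b ≫ dE.inj c = lam ≫ dE.inj c by simp [lam],
      IsIso.inv_hom_id_assoc]
  letI := baseAlg (Spec.map (CommRingCat.ofHom (algebraMap k K)))
  letI : Field Γ(Spec (CommRingCat.of k), ⊤) := (isField_Γ k).toField
  haveI : Nontrivial Γ(Spec (CommRingCat.of K), ⊤) := ⟨(isField_Γ K).exists_pair_ne⟩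
  obtain ⟨l, hl⟩ := LinearMap.exists_leftInverse_of_injective
    (Algebra.linearMap Γ(Spec (CommRingCat.of k), ⊤) Γ(Spec (CommRingCat.of K), ⊤))
    (LinearMap.ker_eq_bot.mpr (RingHom.injective _))
  have hl1 : l 1 = 1 := by simpa using LinearMap.congr_fun hl 1
  let bas := Module.Free.chooseBasis Γ(Spec (CommRingCat.of k), ⊤) Γ(Spec (CommRingCat.of K), ⊤)
  choose sA φ hφ using fun c => exists_sum (sq p K) E E bas (A c)
  choose sB γ hγ using fun c => exists_sum (sq p K) E E bas (B c)
  let T : Finset (Σ _ : Fin r, _ × _) := Finset.univ.sigma fun c => sA c ×ˢ sB c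
  let ch : Option (Σ _ : Fin r, _ × _) → Γ(Spec (CommRingCat.of K), ⊤) :=
    fun o => o.elim (-1) fun z => bas z.2.2 * bas z.2.1
  let ψ : Option (Σ _ : Fin r, _ × _) → (E ⟶ E) :=
    fun o => o.elim (𝟙 E) fun z => φ z.1 z.2.1 ≫ f ≫ γ z.1 z.2.2
  have h0 : ∑ o ∈ Finset.insertNone T, P.map (ψ o) ≫ Tm q _ (ch o) = 0 := by
    rw [Finset.sum_insertNone, Finset.sum_sigma]
    simp only [Finset.sum_product, ψ, ch, Option.elim, CategoryTheory.Functor.map_id, Category.id_comp,
      P]
    rw [Tm, map_neg, map_one, scal_neg, scal_one]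
    have e : ∀ c i j, (Scheme.Modules.pullback (proj p K)).map (φ c i ≫ f ≫ γ c j) ≫
        Tm q _ (bas j * bas i) =
        ((Scheme.Modules.pullback (proj p K)).map (φ c i) ≫ Tm q _ (bas i)) ≫
          P.map f ≫ ((Scheme.Modules.pullback (proj p K)).map (γ c j) ≫ Tm q _ (bas j)) := fun c i j => by
      rw [← pair_comp, Functor.map_comp]
      simp only [P, Category.assoc]
    simp only [e, ← Preadditive.comp_sum, ← Preadditive.sum_comp]
    refine Eq.trans (congrArg (fun z => -𝟙 _ + z) (Eq.trans (Finset.sum_congr rfl fun c _ => ?_) hAB))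
      (neg_add_cancel _)
    exact congrArg₂ (fun a b => a ≫ P.map f ≫ b) (hφ c).symm (hγ c).symm
  have hc := coeff_eq_zero (sq p K) E E _ ch ψ h0 l
  rw [Finset.sum_insertNone] at hc
  simp only [ψ, ch, Option.elim, Category.id_comp] at hc
  rw [map_neg, map_neg, scal_neg, hl1, map_one, scal_one, neg_add_eq_zero] at hc
  let en := T.equivFin.symm
  refine ⟨T.card, fun i => φ (en i).1.1 (en i).1.2.1,
    fun i => γ (en i).1.1 (en i).1.2.2 ≫ scal E (p.appTop (l (bas (en i).1.2.2 * bas (en i).1.2.1))), ?_⟩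
  rw [hc]
  refine Eq.trans ?_ (Finset.sum_coe_sort T fun z => (φ z.1 z.2.1 ≫ f ≫ γ z.1 z.2.2) ≫
    scal E (p.appTop (l (bas z.2.2 * bas z.2.1))))
  refine Fintype.sum_equiv en _ _ fun i => ?_
  simp only [Category.assoc]


/-- Endomorphisms of an isotypic module of invertible type on a geometrically integral scheme:
every nonzero one generates the unit two-sided ideal. -/
theorem generates [GeometricallyIntegral p] {E : X.Modules} (hE : Coh.IsCoh E)
    {L : (W4bk4gw11416.baseChange p K).Modules} (hL : PicF.IsInvertible L) {r : ℕ}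
    (dE : Dec (bcMod p K E) (fun _ : Fin r => L)) (f : E ⟶ E) (hf : f ≠ 0) :
    ∃ (n : ℕ) (x y : Fin n → (E ⟶ E)), ∑ i, x i ≫ f ≫ y i = 𝟙 E := by
  let q := W4bk4gw11416.baseChangeTo p K
  haveI : IsIntegral (W4bk4gw11416.baseChange p K) := GeometricallyIntegral.isIntegral_of_subsingleton q
  have hLc : Coh.IsCoh L :=
    VBLib.isCoh_of_ofRank (Groth.Agent.ProjTwist.isFinLocFreeOfRank_one hL)
  refine generates_of_isIso p K hE (fun g hab => ?_) dE f hf
  haveI := isArtinianRing_end K q L hLc
  have hmul : ∀ g h : End L, g * h = 0 → g = 0 ∨ h = 0 := fun g h e =>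
    (comp_eq_zero hL (End.asHom h) (End.asHom g) e).symm
  have hid : ∀ e : End L, IsIdempotentElem e → e = 0 ∨ e = 1 := fun e he =>
    (hmul e (1 - e) (by rw [mul_sub, mul_one, he.eq, sub_self])).imp id
      fun h => (sub_eq_zero.mp h).symm
  rcases isUnit_or_isNilpotent hid (End.of g) with hu | ⟨n, hn⟩
  · exact (isUnit_iff_isIso _).mp hu
  · exfalso
    have hz : ∀ (n : ℕ) (g : End L), g ^ n = 0 → g ≠ 0 → (1 : End L) = 0 := by
      intro n
      induction n with
      | zero => intro g hg _; rwa [pow_zero] at hg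
      | succ n ih =>
        intro g hg hg0
        rw [pow_succ] at hg
        exact ih g ((hmul _ _ hg).resolve_right hg0) hg0
    refine hab ?_
    have h1 : 𝟙 L = 0 := hz n _ hn hab
    rw [← Category.comp_id (g), h1, comp_zero]

end Groth.Agent.KSMod
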