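import Groth.Agent.KSMod.Isotypic
import Groth.Agent.CohDev.Key
import Groth.Agent.PicLaw.Calc

/-!
# Invertible modules on connected schemes are indecomposable
-/

set_option autoImplicit false
universe u

open CategoryTheory CategoryTheory.Limits AlgebraicGeometry
open Groth.Agent.PullStalk.Sky Groth.Agent.PullStalk.Exact

noncomputable section

namespace Groth.Agent.KSMod

variable {X : Scheme.{u}}

/-- Invertible modules on connected schemes are indecomposable. -/
theorem indec_of_isInvertible [ConnectedSpace X] {L : X.Modules} (hL : PicF.IsInvertible L) :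
    Indec L := by
  have hLc : Coh.IsCoh L :=
    VBLib.isCoh_of_ofRank (ProjTwist.isFinLocFreeOfRank_one hL)
  have hstalk : ∀ y : X, Nontrivial (L.presheaf.stalk y) := fun y => by
    obtain ⟨e⟩ := EulerChar.stalk_ofRank (ProjTwist.isFinLocFreeOfRank_one hL) y
    exact e.injective.nontrivial
  have h0 : ¬ IsZero L := fun hz => by
    obtain ⟨y⟩ : Nonempty X := inferInstance
    obtain ⟨a, b, hab⟩ := (hstalk y).exists_pair_ne
    have hid := (IsZero.iff_id_eq_zero L).mp hz
    refine hab ?_
    rw [← CohDev.stalkLin_id_apply y a, ← CohDev.stalkLin_id_apply y b, hid,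
      CohDev.stalkLin_zero_apply, CohDev.stalkLin_zero_apply]
  refine indec_of_idem h0 fun ε hε => ?_
  obtain ⟨P, Q, i, p, i', p', hip, hpi, hip', hpi', -⟩ := exists_split ε hε
  have hPc := isCoh_of_retract i p hip hLc
  have hQc := isCoh_of_retract i' p' hip' hLc
  have hi'p : i' ≫ p = 0 := by
    have h1 : i' ≫ p = i' ≫ (p' ≫ i') ≫ p := by simp [reassoc_of% hip']
    rw [h1, hpi', ← hpi, Preadditive.sub_comp, Category.id_comp, Category.assoc, hip,
      Category.comp_id, sub_self, comp_zero]
  have hone : ∀ y : X, ¬ (Subsingleton (P.presheaf.stalk y) ∧ Subsingleton (Q.presheaf.stalk y)) := by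
    rintro y ⟨hP, hQ⟩
    obtain ⟨a, b, hab⟩ := (hstalk y).exists_pair_ne
    refine hab ?_
    have hid : 𝟙 L = p ≫ i + p' ≫ i' := by rw [hpi, hpi', add_sub_cancel]
    rw [← CohDev.stalkLin_id_apply y a, ← CohDev.stalkLin_id_apply y b, hid,
      CohDev.stalkLin_add_apply, CohDev.stalkLin_add_apply, CohDev.stalkLin_comp_apply,
      CohDev.stalkLin_comp_apply, CohDev.stalkLin_comp_apply, CohDev.stalkLin_comp_apply,
      Subsingleton.elim (stalkLin p y a) (stalkLin p y b),
      Subsingleton.elim (stalkLin p' y a) (stalkLin p' y b)]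
  have htwo : ∀ y : X, Subsingleton (P.presheaf.stalk y) ∨ Subsingleton (Q.presheaf.stalk y) := by
    intro y
    obtain ⟨e⟩ := EulerChar.stalk_ofRank (ProjTwist.isFinLocFreeOfRank_one hL) y
    have hsc : ∃ c : X.presheaf.stalk y, ∀ v, stalkLin ε y v = c • v := by
      refine ⟨e.symm (stalkLin ε y (e fun _ => 1)) 0, fun v => ?_⟩
      obtain ⟨a, rfl⟩ := e.surjective v
      have ha : a = a 0 • (fun _ : Fin 1 => (1 : X.presheaf.stalk y)) := by
        funext j; rw [Subsingleton.elim j 0]; simp
      apply e.symm.injective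
      funext j
      conv_lhs => rw [ha, map_smul, map_smul, map_smul]
      rw [Subsingleton.elim j 0, map_smul, LinearEquiv.symm_apply_apply, Pi.smul_apply, Pi.smul_apply,
        smul_eq_mul, smul_eq_mul, mul_comm]
    obtain ⟨c, hc⟩ := hsc
    have h2 : IsIdempotentElem c := by
      have h := hc (e fun _ => 1)
      have h3 : stalkLin ε y (stalkLin ε y (e fun _ => 1)) = stalkLin ε y (e fun _ => 1) := by
        rw [← CohDev.stalkLin_comp_apply, hε]
      rw [h, map_smul, h, smul_smul] at h3
      have h4 := congrFun (congrArg e.symm h3) 0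
      simpa [IsIdempotentElem] using h4
    rcases IsLocalRing.isUnit_or_isUnit_one_sub_self c with hu | hu
    · refine Or.inr ⟨fun a b => ?_⟩
      have hc1 : c = 1 := hu.mul_left_cancel (h2.eq.trans (mul_one c).symm)
      have key : ∀ t, t = (0 : Q.presheaf.stalk y) := fun t => by
        have h1 : stalkLin ε y (stalkLin i' y t) = 0 := by
          rw [← CohDev.stalkLin_comp_apply, ← hpi, ← Category.assoc, hi'p, zero_comp,
            CohDev.stalkLin_zero_apply]
        rw [hc, hc1, one_smul] at h1
        rw [← CohDev.stalkLin_id_apply y t, ← hip', CohDev.stalkLin_comp_apply, h1, map_zero]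
      rw [key a, key b]
    · refine Or.inl ⟨fun a b => ?_⟩
      have hc0 : c = 0 := hu.mul_right_eq_zero.mp (by rw [sub_mul, one_mul, h2.eq, sub_self])
      have key : ∀ t, t = (0 : P.presheaf.stalk y) := fun t => by
        have h1 : i ≫ p = (i ≫ ε) ≫ p := by rw [← hpi]; simp [reassoc_of% hip, hip]
        rw [← CohDev.stalkLin_id_apply y t, ← hip, h1, CohDev.stalkLin_comp_apply,
          CohDev.stalkLin_comp_apply, hc, hc0, zero_smul, map_zero]
      rw [key a, key b]
  have hcompl : (CohB1.support P)ᶜ = CohB1.support Q := by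
    ext y
    change ¬¬ Subsingleton (P.presheaf.stalk y) ↔ ¬ Subsingleton (Q.presheaf.stalk y)
    rw [not_not]
    exact ⟨fun h h' => hone y ⟨h, h'⟩, fun h => (htwo y).resolve_right h⟩
  have hcl : IsClopen (CohB1.support P) :=
    ⟨CohDev.isClosed_support hPc, isClosed_compl_iff.mp (hcompl ▸ CohDev.isClosed_support hQc)⟩
  rcases isClopen_iff.mp hcl with h | h
  · left
    rw [← hpi, (CohDev.isZero_of_support_eq_empty h).eq_of_tgt p 0, zero_comp]
  · right
    have hQ : CohB1.support Q = ∅ := by rw [← hcompl, h, Set.compl_univ]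
    rw [← sub_eq_zero, ← neg_sub, neg_eq_zero, ← hpi',
      (CohDev.isZero_of_support_eq_empty hQ).eq_of_tgt p' 0, zero_comp]

end Groth.Agent.KSMod
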