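import Groth.Agent.KSMod.Global
import Groth.Agent.PicPn.Main
import Groth.Agent.PicLaw.Calc
import Groth.Agent.ProjTwist.Pn.H0

/-!
# Automorphisms fix the twisting sheaves
-/

set_option autoImplicit false
universe u

open CategoryTheory CategoryTheory.Limits AlgebraicGeometry Opposite TopologicalSpace MvPolynomial
open Groth.Agent.QCoh Groth.Agent.Props.GenLocus
open scoped Groth.Agent.PicLaw

noncomputable section

namespace Groth.Agent.KSMod

/-- Maps from the structure module vanish without global sections. -/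
theorem eq_zero_of_subsingleton {X : Scheme.{u}} {M : X.Modules} [Subsingleton Γ(M, ⊤)]
    (s : Coh.structureModule X ⟶ M) : s = 0 := by
  refine Scheme.Modules.hom_ext _ _ fun U => ?_
  ext a
  change s.app U a = (0 : Γ(M, U))
  rw [app_eq, ← sec_res s (le_top : U ≤ ⊤), Subsingleton.elim (sec s ⊤) 0, map_zero, smul_zero]

section Pn

variable {n : ℕ} {K : Type u} [Field K]

abbrev tw (n : ℕ) (K : Type u) [Field K] (d : ℤ) : (CohB1.ProjSpace n K).Modules :=
  Twist.twistProjSpace n K d

/-- The classes of the twists. -/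
def twCls (n : ℕ) (K : Type u) [Field K] : Multiplicative ℤ →* PicLoc.PicSet (CohB1.ProjSpace n K) :=
  MonoidHom.mk' (fun d => PicGrp.cls (tw n K d.toAdd) (ProjTwist.isInvertible_twistProjSpace n K d.toAdd))
    (fun a b => by
      rw [← PicLaw.cls_tensor]
      obtain ⟨φ⟩ := ProjTwist.nonempty_twistProjSpace_tensor n K a.toAdd b.toAdd
      exact (PicGrp.cls_eq_cls_iff _ _).mpr ⟨φ.symm⟩)

theorem twCls_zpow (j : ℤ) :
    twCls n K (Multiplicative.ofAdd j) = twCls n K (Multiplicative.ofAdd 1) ^ j := by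
  rw [← map_zpow, ← Int.ofAdd_mul, one_mul]

theorem exists_twCls (c : PicLoc.PicSet (CohB1.ProjSpace n K)) :
    ∃ d : ℤ, c = twCls n K (Multiplicative.ofAdd d) := by
  obtain ⟨L, hL, rfl⟩ := PicLaw.exists_cls_eq c
  obtain ⟨d, e⟩ := PicPn.exists_iso_twist hL
  exact ⟨d, (PicGrp.cls_eq_cls_iff hL (ProjTwist.isInvertible_twistProjSpace n K d)).mpr e⟩

theorem nonempty_iso_of_zero (a b : ℤ) : Nonempty (tw 0 K a ≅ tw 0 K b) :=
  PicLaw.nonempty_iso_of_transition (fun i => ProjTwist.stdOpen 0 K i)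
    (fun _ => Opens.mem_iSup.mp ((ProjTwist.iSup_stdOpen 0 K).ge trivial))
    (fun i => PicPn.pg a i) (fun i => PicPn.isGen_pg a i)
    (fun i => PicPn.pg b i) (fun i => PicPn.isGen_pg b i)
    (fun i j V hi hj => by
      obtain rfl : i = j := Fin.ext (by omega)
      exact ⟨1, (one_smul _ _).symm, (one_smul _ _).symm⟩)

theorem subsingleton_sections_neg (hn : 1 ≤ n) : Subsingleton Γ(tw n K (-1), ⊤) :=
  haveI := ProjTwist.Pn.subsingleton_H0 (R := K) (d := -1) hn (by norm_num)
  (Sheaf.H.equiv₀ (Coh.toAb (tw n K (-1))) CategoryTheory.Limits.isTerminalTop).toEquiv.symm.subsingleton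

theorem exists_section_one : ∃ s : Coh.structureModule _ ⟶ tw n K 1, s ≠ 0 := by
  let x : homogeneousSubmodule (Fin (n + 1)) K 1 :=
    ⟨X 0, (mem_homogeneousSubmodule 1 _).mpr (isHomogeneous_X K 0)⟩
  let σ : Γ(tw n K 1, ⊤) :=
    Sheaf.H.equiv₀ (Coh.toAb (tw n K 1)) CategoryTheory.Limits.isTerminalTop
      (ProjTwist.Pn.h0Equiv n K 1 x)
  refine ⟨homOfSec σ, fun h => ?_⟩
  have hσ : σ = 0 := by
    have := congrArg (fun s => sec s (⊤ : (CohB1.ProjSpace n K).Opens)) h
    simp only [sec_homOfSec] at this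
    rw [res_self] at this
    exact this.trans rfl
  have h2 := (LinearEquiv.map_eq_zero_iff _).mp ((AddEquiv.map_eq_zero_iff _).mp hσ)
  exact X_ne_zero 0 (congrArg Subtype.val h2)

/-- An automorphism of projective space fixes every twist. -/
theorem nonempty_pullback_tw (g : CohB1.ProjSpace n K ⟶ CohB1.ProjSpace n K) [IsIso g] (j : ℤ) :
    Nonempty ((Scheme.Modules.pullback g).obj (tw n K j) ≅ tw n K j) := by
  rcases Nat.eq_zero_or_pos n with rfl | hn
  · obtain ⟨d, ⟨e⟩⟩ := PicPn.exists_iso_twist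
      (PicLoc.isInvertible_pullback g (ProjTwist.isInvertible_twistProjSpace 0 K j))
    exact ⟨e ≪≫ (nonempty_iso_of_zero d j).some⟩
  suffices h1 : PicLaw.pl g (twCls n K (Multiplicative.ofAdd 1)) = twCls n K (Multiplicative.ofAdd 1) by
    refine (PicGrp.cls_eq_cls_iff (PicLoc.isInvertible_pullback g (ProjTwist.isInvertible_twistProjSpace n K j))
      (ProjTwist.isInvertible_twistProjSpace n K j)).mp ?_
    rw [PicLaw.cls_pullback g (ProjTwist.isInvertible_twistProjSpace n K j)]
    change PicLaw.pl g (twCls n K (Multiplicative.ofAdd j)) = twCls n K (Multiplicative.ofAdd j)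
    rw [twCls_zpow, map_zpow, h1]
  obtain ⟨d, hd⟩ := exists_twCls (PicLaw.pl g (twCls n K (Multiplicative.ofAdd 1)))
  obtain ⟨d', hd'⟩ := exists_twCls (PicLaw.pl (inv g) (twCls n K (Multiplicative.ofAdd 1)))
  have hdd : twCls n K (Multiplicative.ofAdd (d * d')) = twCls n K (Multiplicative.ofAdd 1) := by
    have h := congrArg (PicLaw.pl (inv g)) hd
    rw [← PicLaw.pl_comp, PicLaw.pl_congr (IsIso.inv_hom_id g), PicLaw.pl_id, twCls_zpow d, map_zpow,
      hd', twCls_zpow d', ← zpow_mul] at h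
    rw [h, twCls_zpow (d * d'), mul_comm d]
  have h1 : d * d' = 1 := PicPn.degree_unique hn _ _
    ((PicGrp.cls_eq_cls_iff (ProjTwist.isInvertible_twistProjSpace n K (d * d'))
      (ProjTwist.isInvertible_twistProjSpace n K 1)).mp hdd).some
  rcases Int.eq_one_or_neg_one_of_mul_eq_one h1 with rfl | rfl
  · exact hd
  exfalso
  obtain ⟨s, hs⟩ := exists_section_one (n := n) (K := K)
  obtain ⟨e⟩ : Nonempty ((Scheme.Modules.pullback g).obj (tw n K 1) ≅ tw n K (-1)) := by
    refine (PicGrp.cls_eq_cls_iff (PicLoc.isInvertible_pullback g (ProjTwist.isInvertible_twistProjSpace n K 1))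
      (ProjTwist.isInvertible_twistProjSpace n K (-1))).mp ?_
    rw [PicLaw.cls_pullback g (ProjTwist.isInvertible_twistProjSpace n K 1)]
    exact hd
  obtain ⟨e0⟩ : Nonempty ((Scheme.Modules.pullback g).obj (Coh.structureModule _) ≅
      Coh.structureModule (CohB1.ProjSpace n K)) := by
    refine (PicGrp.cls_eq_one_iff
      (PicLoc.isInvertible_pullback g (PicLoc.isInvertible_structureModule _))).mp ?_
    rw [PicLaw.cls_pullback g (PicLoc.isInvertible_structureModule _), PicLaw.cls_one, map_one]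
  haveI := subsingleton_sections_neg (K := K) hn
  have hz : (Scheme.Modules.pullback g).map s = 0 := by
    have := eq_zero_of_subsingleton (e0.inv ≫ (Scheme.Modules.pullback g).map s ≫ e.hom)
    rw [← cancel_epi e0.inv, ← cancel_mono e.hom, Category.assoc, this, comp_zero, zero_comp]
  let η := Scheme.Modules.pullbackComp (inv g) g ≪≫
    Scheme.Modules.pullbackCongr (IsIso.inv_hom_id g) ≪≫ Scheme.Modules.pullbackId _
  refine hs ?_
  have hnat := η.hom.naturality s
  rw [Functor.comp_map, hz, Functor.map_zero, zero_comp, Functor.id_map] at hnat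
  rw [← cancel_epi (η.hom.app (Coh.structureModule _)), ← hnat, comp_zero]

end Pn

/-- An automorphism fixes the twists of a splitting. -/
theorem nonempty_pullback_twist {k : Type u} [Field k] {X : Scheme.{u}}
    {p : X ⟶ Spec (CommRingCat.of k)} {K : Type u} [Field K] [Algebra k K] {n : ℕ}
    (e : BrSev.Splitting p K n) (g : BrSev.bc p K ⟶ BrSev.bc p K) [IsIso g] (j : ℤ) :
    Nonempty ((Scheme.Modules.pullback g).obj (e.twist j) ≅ e.twist j) := by
  obtain ⟨φ⟩ := nonempty_pullback_tw (e.iso.inv ≫ g ≫ e.iso.hom) j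
  exact ⟨(Scheme.Modules.pullbackComp g e.iso.hom).app _ ≪≫
    (Scheme.Modules.pullbackCongr (show g ≫ e.iso.hom = e.iso.hom ≫ (e.iso.inv ≫ g ≫ e.iso.hom) by
      simp)).app _ ≪≫ ((Scheme.Modules.pullbackComp _ _).app _).symm ≪≫
    (Scheme.Modules.pullback e.iso.hom).mapIso φ⟩

/-- Invertible modules on a split variety are twists. -/
theorem exists_iso_eTwist {k : Type u} [Field k] {X : Scheme.{u}}
    {p : X ⟶ Spec (CommRingCat.of k)} {K : Type u} [Field K] [Algebra k K] {n : ℕ}
    (e : BrSev.Splitting p K n) {L : (BrSev.bc p K).Modules} (hL : PicF.IsInvertible L) :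
    ∃ j : ℤ, Nonempty (L ≅ e.twist j) := by
  obtain ⟨j, ⟨φ⟩⟩ := PicPn.exists_iso_twist (PicLoc.isInvertible_pullback e.iso.inv hL)
  exact ⟨j, ⟨((Scheme.Modules.pullbackId _).app L).symm ≪≫
    (Scheme.Modules.pullbackCongr e.iso.hom_inv_id.symm).app L ≪≫
    ((Scheme.Modules.pullbackComp e.iso.hom e.iso.inv).app L).symm ≪≫
    (Scheme.Modules.pullback e.iso.hom).mapIso φ⟩⟩

end Groth.Agent.KSMod
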