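import Groth.Agent.KSMod.GalIso
import Groth.Agent.KSMod.GalTwist
import Mathlib.FieldTheory.SeparableDegree

/-!
# Absolutely split modules on Severi–Brauer varieties
-/

set_option autoImplicit false
universe u

open CategoryTheory CategoryTheory.Limits AlgebraicGeometry
open W4c1astiltbs12
open scoped Classical

noncomputable section

namespace Groth.Agent.KSMod

variable {k : Type u} [Field k] {X : Scheme.{u}} (p : X ⟶ Spec (CommRingCat.of k))
  (K : Type u) [Field K] [Algebra k K]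

instance isIso_galAct (σ : K ≃ₐ[k] K) : IsIso (galAct p K σ) := by
  haveI : IsIso (CommRingCat.ofHom (σ : K →+* K)) :=
    inferInstanceAs (IsIso σ.toRingEquiv.toCommRingCatIso.hom)
  unfold galAct
  infer_instance

omit X p in
/-- In a normal extension an element fixed by all automorphisms is radicial over the base. -/
theorem pow_mem_of_fixed [IsAlgClosure k K] (q : ℕ) [ExpChar k q] (c : K)
    (hc : ∀ σ : K ≃ₐ[k] K, σ c = c) : ∃ (m : ℕ) (a : k), algebraMap k K a = c ^ q ^ m := by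
  haveI : Algebra.IsAlgebraic k K := IsAlgClosure.isAlgebraic
  haveI : IsAlgClosed K := IsAlgClosure.isAlgClosed k
  have h1 : (minpoly k c).natSepDegree = 1 := by
    rw [Polynomial.natSepDegree_eq_of_isAlgClosed K, Finset.card_eq_one]
    refine ⟨c, Finset.ext fun x => ?_⟩
    rw [Multiset.mem_toFinset, Finset.mem_singleton, Polynomial.mem_aroots]
    refine ⟨fun h => ?_, fun h => by subst h; exact ⟨minpoly.ne_zero (Algebra.IsIntegral.isIntegral x), minpoly.aeval k x⟩⟩
    obtain ⟨σ, hσ⟩ := minpoly.exists_algEquiv_of_root' (Algebra.IsAlgebraic.isAlgebraic c) h.2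
    exact hσ.symm.trans (hc σ)
  obtain ⟨m, a, ha⟩ := (minpoly.natSepDegree_eq_one_iff_pow_mem q).mp h1
  exact ⟨m, a, ha⟩

variable [IsProper p]

/-- Summands of a module split into indecomposables are split into some of them. -/
theorem exists_dec_sub {ι : Type} [Fintype ι] {M N : (W4bk4gw11416.baseChange p K).Modules}
    (hM : Coh.IsCoh M) {Ls : ι → (W4bk4gw11416.baseChange p K).Modules} (hLs : ∀ i, Indec (Ls i))
    (dN : Dec N Ls) (i : M ⟶ N) (r : N ⟶ M) (h : i ≫ r = 𝟙 M) :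
    ∃ (n : ℕ) (f : Fin n → ι), Nonempty (Dec M (fun c => Ls (f c))) := by
  haveI := isArtinian_bc p K M hM
  obtain ⟨n, Hs, hHs, ⟨d⟩⟩ := exists_dec M
  have hiso : ∀ c, ∃ a, Nonempty (Hs c ≅ Ls a) := fun c => by
    haveI := isArtinianRing_of_retract _ _ (d.inj_proj c)
    haveI := (hHs c).isLocalRing
    obtain ⟨a, -, y', hy'⟩ := exists_retract_of_sum Finset.univ Ls
      (fun a => d.inj c ≫ i ≫ dN.proj a) (fun a => dN.inj a ≫ r ≫ d.proj c) (by
        simp only [Category.assoc, ← Preadditive.comp_sum]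
        simp only [← Category.assoc (dN.proj _), ← Preadditive.sum_comp, dN.total, Category.id_comp,
          reassoc_of% h, d.inj_proj])
    exact ⟨a, iso_of_retract (hHs c).1 (hLs a) _ _ hy'⟩
  choose f hf using hiso
  exact ⟨n, f, ⟨d.congr (Iso.refl M) fun c => (hf c).some⟩⟩

variable {p K}

/-- An indecomposable absolutely split module is isotypical of twisting type. -/
theorem exists_twPow [IsAlgClosure k K] {n : ℕ} (e : BrSev.Splitting p K n) {E : X.Modules}
    (hE : Coh.IsCoh E) (hEi : Indec E) {s : ℕ} {Ls : Fin s → (BrSev.bc p K).Modules}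
    (hLs : ∀ i, PicF.IsInvertible (Ls i)) (hsplit : Nonempty (BrSev.bcMod p K E ≅ ∐ Ls)) :
    ∃ (j : ℤ) (r : ℕ), 0 < r ∧ BrSev.IsTwPow e j r E := by
  haveI : IsAlgClosed K := IsAlgClosure.isAlgClosed k
  haveI := connectedSpace_of_splitting e
  obtain ⟨q, _⟩ := ExpChar.exists k
  have hinv : ∀ (σ : K ≃ₐ[k] K) (i : Fin s),
      Nonempty ((Scheme.Modules.pullback (galAct p K σ)).obj (Ls i) ≅ Ls i) := fun σ i => by
    obtain ⟨j, ⟨φ⟩⟩ := exists_iso_eTwist e (hLs i)
    obtain ⟨ψ⟩ := nonempty_pullback_twist e (galAct p K σ) j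
    exact ⟨(Scheme.Modules.pullback _).mapIso φ ≪≫ ψ ≪≫ φ.symm⟩
  obtain ⟨i, hs, ⟨d⟩⟩ := exists_isotypical p K q (pow_mem_of_fixed K q) hE hEi hLs hinv hsplit
  obtain ⟨j, ⟨φ⟩⟩ := exists_iso_eTwist e (hLs i)
  exact ⟨j, s, hs, ⟨(d.congr (Iso.refl _) fun _ => φ).powIso⟩⟩

/-- An absolutely split module is a sum of indecomposables of twisting type. -/
theorem exists_split_twPow [IsAlgClosure k K] {n : ℕ} (e : BrSev.Splitting p K n) {E : X.Modules}
    (hE : FlatMod.IsFinLocFree E) {s : ℕ} {Ls : Fin s → (BrSev.bc p K).Modules}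
    (hLs : ∀ i, PicF.IsInvertible (Ls i)) (hsplit : Nonempty (BrSev.bcMod p K E ≅ ∐ Ls)) :
    ∃ (t : ℕ) (Ms : Fin t → X.Modules) (js : Fin t → ℤ) (rs : Fin t → ℕ),
      (∀ i, FlatMod.IsFinLocFree (Ms i) ∧ Indec (Ms i) ∧
        0 < rs i ∧ BrSev.IsTwPow e (js i) (rs i) (Ms i)) ∧
      Nonempty (E ≅ ∐ Ms) := by
  haveI : HasFiniteBiproducts (BrSev.bc p K).Modules := Abelian.hasFiniteBiproducts
  haveI : HasFiniteBiproducts X.Modules := Abelian.hasFiniteBiproducts
  haveI := isLocallyNoetherian p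
  haveI := connectedSpace_of_splitting e
  have hEc := VBLib.isCoh_of_isFinLocFree hE
  haveI := isArtinian p E hEc
  obtain ⟨t, Ms, hMs, ⟨d⟩⟩ := exists_dec E
  obtain ⟨φ⟩ := hsplit
  let dE : Dec (BrSev.bcMod p K E) Ls := Dec.ofIso (φ ≪≫ (biproduct.isoCoproduct Ls).symm)
  have hfree : ∀ c, FlatMod.IsFinLocFree (Ms c) := fun c =>
    isFinLocFree_of_retract (d.inj c) (d.proj c) (d.inj_proj c) hE
  have hex : ∀ c, ∃ (j : ℤ) (r : ℕ), 0 < r ∧ BrSev.IsTwPow e j r (Ms c) := fun c => by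
    have hc := VBLib.isCoh_of_isFinLocFree (hfree c)
    obtain ⟨m, f, ⟨dc⟩⟩ := exists_dec_sub p K (isCoh_bcMod p K hc)
      (fun i => indec_of_isInvertible (hLs i)) dE
      ((Scheme.Modules.pullback (proj p K)).map (d.inj c))
      ((Scheme.Modules.pullback (proj p K)).map (d.proj c))
      (by rw [← Functor.map_comp, d.inj_proj, CategoryTheory.Functor.map_id])
    exact exists_twPow e hc (hMs c) (fun i => hLs (f i)) ⟨dc.iso ≪≫ biproduct.isoCoproduct _⟩
  choose js rs hrs htw using hex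
  exact ⟨t, Ms, js, rs, fun c => ⟨hfree c, hMs c, hrs c, htw c⟩, ⟨d.iso ≪≫ biproduct.isoCoproduct _⟩⟩

end Groth.Agent.KSMod
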