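import Groth.Agent.KSMod.HomBC
import Groth.Prelude.Def_W4c1astiltbs12AS
import Mathlib.RingTheory.IntegralClosure.IsIntegralClosure.Basic
import Mathlib.LinearAlgebra.Basis.VectorSpace

/-!
# Descent of isomorphisms and of simplicity along algebraic extensions of the base field
-/

set_option autoImplicit false
universe u

open CategoryTheory CategoryTheory.Limits AlgebraicGeometry Opposite TopologicalSpace

noncomputable section

namespace Groth.Agent.KSMod

variable {X S S' X' : Scheme.{u}} {f : X ⟶ S} {g : S' ⟶ S} {p : X' ⟶ X} {q : X' ⟶ S'}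

theorem scal_comp {Y : Scheme.{u}} (P : Y.Modules) (a b : Γ(Y, ⊤)) :
    scal P a ≫ scal P b = scal P (b * a) := ((scalHom P).map_mul b a).symm

theorem scal_add {Y : Scheme.{u}} (P : Y.Modules) (a b : Γ(Y, ⊤)) :
    scal P (a + b) = scal P a + scal P b := (scalHom P).map_add a b

theorem scal_one {Y : Scheme.{u}} (P : Y.Modules) : scal P 1 = 𝟙 P := (scalHom P).map_one

theorem scal_zero {Y : Scheme.{u}} (P : Y.Modules) : scal P 0 = 0 := (scalHom P).map_zero

theorem scal_neg {Y : Scheme.{u}} (P : Y.Modules) (a : Γ(Y, ⊤)) : scal P (-a) = -scal P a :=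
  (scalHom P).map_neg a

theorem scal_sum {Y : Scheme.{u}} (P : Y.Modules) {J : Type*} (s : Finset J) (a : J → Γ(Y, ⊤)) :
    scal P (∑ i ∈ s, a i) = ∑ i ∈ s, scal P (a i) := map_sum (scalHom P) a s

theorem pair_comp {M N L : X.Modules} (φ : M ⟶ N) (γ : N ⟶ L) (x y : Γ(S', ⊤)) :
    ((Scheme.Modules.pullback p).map φ ≫ Tm q _ x) ≫
      ((Scheme.Modules.pullback p).map γ ≫ Tm q _ y) =
    (Scheme.Modules.pullback p).map (φ ≫ γ) ≫ Tm q _ (y * x) := by
  rw [Functor.map_comp, Category.assoc, Category.assoc, ← Category.assoc (Tm q _ x), Tm, scal_nat,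
    Category.assoc, scal_comp, ← map_mul]

variable [IsAffine S] [IsAffine S'] (H : IsPullback p q f g) [CompactSpace X]

set_option maxHeartbeats 1000000 in
include H in
/-- An isomorphism after an algebraic extension gives an invertible matrix. -/
theorem exists_matrix (hR : IsField Γ(S, ⊤)) (hR' : IsField Γ(S', ⊤))
    (halg : letI := baseAlg g; Algebra.IsIntegral Γ(S, ⊤) Γ(S', ⊤))
    (M N : X.Modules) [M.IsQuasicoherent] [N.IsQuasicoherent]
    [SheafOfModules.IsFiniteType.{u} M] [SheafOfModules.IsFiniteType.{u} N]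
    (α : (Scheme.Modules.pullback p).obj M ⟶ (Scheme.Modules.pullback p).obj N)
    (β : (Scheme.Modules.pullback p).obj N ⟶ (Scheme.Modules.pullback p).obj M)
    (hαβ : α ≫ β = 𝟙 _) (hβα : β ≫ α = 𝟙 _) :
    ∃ (d : ℕ) (A : Fin d → Fin d → (M ⟶ N)) (B : Fin d → Fin d → (N ⟶ M)), 0 < d ∧
      (∀ a a', ∑ b, A a b ≫ B b a' = if a = a' then 𝟙 M else 0) ∧
      (∀ a a', ∑ b, B a b ≫ A b a' = if a = a' then 𝟙 N else 0) := by
  classical
  letI := baseAlg g
  letI : Field Γ(S, ⊤) := hR.toField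
  haveI := halg
  haveI : Nontrivial Γ(S', ⊤) := ⟨hR'.exists_pair_ne⟩
  let bas := Module.Free.chooseBasis Γ(S, ⊤) Γ(S', ⊤)
  obtain ⟨s, φ, hφ⟩ := exists_sum H M N bas α
  obtain ⟨t, γ, hγ⟩ := exists_sum H N M bas β
  let G : Set Γ(S', ⊤) := bas '' ↑(s ∪ t)
  let L := Algebra.adjoin Γ(S, ⊤) G
  haveI : Module.Finite Γ(S, ⊤) L :=
    Module.Finite.iff_fg.mpr (fg_adjoin_of_finite ((s ∪ t).finite_toSet.image bas) fun x _ =>
      Algebra.IsIntegral.isIntegral x)
  obtain ⟨π, hπ⟩ := LinearMap.exists_leftInverse_of_injective L.val.toLinearMap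
    (LinearMap.ker_eq_bot.mpr Subtype.val_injective)
  let e := Module.finBasis Γ(S, ⊤) L
  set d := Module.finrank Γ(S, ⊤) L
  have hd : 0 < d := Module.finrank_pos
  have hπv : ∀ x : L, π (x : Γ(S', ⊤)) = x := fun x => LinearMap.congr_fun hπ x
  let l : Fin d → Fin d → Γ(S', ⊤) →ₗ[Γ(S, ⊤)] Γ(S, ⊤) := fun a b =>
    (e.coord b).comp (π.comp (LinearMap.mulRight Γ(S, ⊤) (e a : Γ(S', ⊤))))
  have hl : ∀ (x : L) a b, l a b (x : Γ(S', ⊤)) = e.repr (x * e a) b := fun x a b => by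
    show e.coord b (π ((x : Γ(S', ⊤)) * (e a : Γ(S', ⊤)))) = _
    rw [show (x : Γ(S', ⊤)) * (e a : Γ(S', ⊤)) = ((x * e a : L) : Γ(S', ⊤)) from rfl, hπv]
    rfl
  have hmul : ∀ (x y : L) a a', ∑ b, l a b (x : Γ(S', ⊤)) * l b a' (y : Γ(S', ⊤)) =
      l a a' ((y : Γ(S', ⊤)) * (x : Γ(S', ⊤))) := fun x y a a' => by
    rw [show (y : Γ(S', ⊤)) * (x : Γ(S', ⊤)) = ((y * x : L) : Γ(S', ⊤)) from rfl, hl]
    simp only [hl]
    conv_rhs => rw [_root_.mul_assoc, ← e.sum_repr (x * e a), Finset.mul_sum, map_sum,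
      Finsupp.coe_finset_sum, Finset.sum_apply]
    exact Finset.sum_congr rfl fun b _ => by
      rw [mul_smul_comm, map_smul, Finsupp.smul_apply, smul_eq_mul]
  have hone : ∀ a a', l a a' 1 = if a = a' then 1 else 0 := fun a a' => by
    show l a a' ((1 : L) : Γ(S', ⊤)) = _
    rw [hl, one_mul, e.repr_self, Finsupp.single_apply]
  let cM := fun (P : X.Modules) (r : Γ(S, ⊤)) => scal P (f.appTop r)
  suffices key : ∀ (P Q : X.Modules) [P.IsQuasicoherent] [Q.IsQuasicoherent]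
      (u : Finset (Module.Free.ChooseBasisIndex Γ(S, ⊤) Γ(S', ⊤))) (x : _ → (P ⟶ Q))
      (v : Finset (Module.Free.ChooseBasisIndex Γ(S, ⊤) Γ(S', ⊤))) (y : _ → (Q ⟶ P)),
      u ⊆ s ∪ t → v ⊆ s ∪ t →
      (∑ i ∈ u, (Scheme.Modules.pullback p).map (x i) ≫ Tm q _ (bas i)) ≫
        (∑ j ∈ v, (Scheme.Modules.pullback p).map (y j) ≫ Tm q _ (bas j)) = 𝟙 _ →
      ∀ a a', ∑ b, (∑ i ∈ u, x i ≫ cM Q (l a b (bas i))) ≫ (∑ j ∈ v, y j ≫ cM P (l b a' (bas j))) =
        if a = a' then 𝟙 P else 0 from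
    ⟨d, fun a b => ∑ i ∈ s, φ i ≫ cM N (l a b (bas i)),
      fun a b => ∑ j ∈ t, γ j ≫ cM M (l a b (bas j)), hd,
      key M N s φ t γ Finset.subset_union_left Finset.subset_union_right (by rw [← hφ, ← hγ, hαβ]),
      key N M t γ s φ Finset.subset_union_right Finset.subset_union_left (by rw [← hφ, ← hγ, hβα])⟩
  intro P Q _ _ u x v y hu hv hxy a a'
  have hmem : ∀ i ∈ s ∪ t, bas i ∈ L := fun i hi => Algebra.subset_adjoin ⟨i, hi, rfl⟩
  -- the composite as one combination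
  let J := Option (Module.Free.ChooseBasisIndex Γ(S, ⊤) Γ(S', ⊤) ×
    Module.Free.ChooseBasisIndex Γ(S, ⊤) Γ(S', ⊤))
  let ch : J → Γ(S', ⊤) := fun o => o.elim (-1) fun ij => bas ij.2 * bas ij.1
  let ψ : J → (P ⟶ P) := fun o => o.elim (𝟙 P) fun ij => x ij.1 ≫ y ij.2
  have h0 : ∑ o ∈ Finset.insertNone (u ×ˢ v),
      (Scheme.Modules.pullback p).map (ψ o) ≫ Tm q _ (ch o) = 0 := by
    rw [Finset.sum_insertNone, Finset.sum_product]
    simp only [ψ, ch, Option.elim, CategoryTheory.Functor.map_id, Category.id_comp]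
    rw [Tm, map_neg, map_one, scal_neg, scal_one]
    simp only [← pair_comp, ← Preadditive.comp_sum, ← Preadditive.sum_comp]
    rw [hxy, neg_add_cancel]
  have hc := coeff_eq_zero H P P _ ch ψ h0 (l a a')
  rw [Finset.sum_insertNone, Finset.sum_product] at hc
  simp only [ψ, ch, Option.elim, Category.id_comp] at hc
  rw [map_neg, map_neg, scal_neg, hone] at hc
  have hrhs : scal P (f.appTop (if a = a' then 1 else 0)) = if a = a' then 𝟙 P else 0 := by
    split_ifs
    · rw [map_one, scal_one]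
    · rw [map_zero, scal_zero]
  rw [hrhs, neg_add_eq_zero] at hc
  rw [hc]
  simp only [Preadditive.sum_comp, Preadditive.comp_sum]
  rw [Finset.sum_comm]
  refine Eq.trans (Finset.sum_congr rfl fun j hj => ?_) Finset.sum_comm
  rw [Finset.sum_comm]
  refine Finset.sum_congr rfl fun i hi => ?_
  have hterm : ∀ b, (x i ≫ cM Q (l a b (bas i))) ≫ y j ≫ cM P (l b a' (bas j)) =
      (x i ≫ y j) ≫ scal P (f.appTop (l b a' (bas j)) * f.appTop (l a b (bas i))) := fun b => by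
    rw [Category.assoc, ← Category.assoc (cM Q _), scal_nat, Category.assoc, scal_comp, Category.assoc]
  simp only [hterm, ← Preadditive.comp_sum, ← scal_sum, ← map_mul, ← map_sum]
  have heq : (∑ b, l b a' (bas j) * l a b (bas i)) = l a a' (bas j * bas i) :=
    (Finset.sum_congr rfl fun b _ => mul_comm _ _).trans
      (hmul ⟨_, hmem i (hu hi)⟩ ⟨_, hmem j (hv hj)⟩ a a')
  rw [heq]

end Groth.Agent.KSMod
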