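import Groth.Agent.KSMod.Descent
import Mathlib.RingTheory.IntegralClosure.Algebra.Basic

/-!
# Base change of coherent modules on a proper scheme to an algebraic extension of the field
-/

set_option autoImplicit false
universe w v u

open CategoryTheory CategoryTheory.Limits AlgebraicGeometry Opposite TopologicalSpace

noncomputable section

namespace Groth.Agent.KSMod

section Cancel

/-- Equal fibre cardinalities give a bijection. -/
theorem exists_equiv_of_prod {α β Q : Type*} [Fintype α] [Fintype β] (cα : α → Q) (cβ : β → Q)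
    {d : ℕ} (hd : 0 < d) (σ : Fin d × α ≃ Fin d × β) (h : ∀ x, cβ (σ x).2 = cα x.2) :
    ∃ e : α ≃ β, ∀ a, cβ (e a) = cα a := by
  classical
  have hc : ∀ c : Q, Fintype.card {a // cα a = c} = Fintype.card {b // cβ b = c} := by
    intro c
    have e1 : Fin d × {a // cα a = c} ≃ {x : Fin d × α // cα x.2 = c} :=
      { toFun := fun z => ⟨(z.1, z.2.1), z.2.2⟩
        invFun := fun z => (z.1.1, ⟨z.1.2, z.2⟩)
        left_inv := fun _ => rfl
        right_inv := fun _ => rfl }
    have e2 : Fin d × {b // cβ b = c} ≃ {x : Fin d × β // cβ x.2 = c} :=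
      { toFun := fun z => ⟨(z.1, z.2.1), z.2.2⟩
        invFun := fun z => (z.1.1, ⟨z.1.2, z.2⟩)
        left_inv := fun _ => rfl
        right_inv := fun _ => rfl }
    have h1 := Fintype.card_congr e1
    have h2 := Fintype.card_congr e2
    have h3 : Fintype.card {x : Fin d × α // cα x.2 = c} =
        Fintype.card {x : Fin d × β // cβ x.2 = c} :=
      Fintype.card_congr (σ.subtypeEquiv fun x => by rw [h])
    rw [← h1, ← h2, Fintype.card_prod, Fintype.card_prod] at h3
    exact Nat.eq_of_mul_eq_mul_left (by simpa using hd) h3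
  refine ⟨Equiv.ofFiberEquiv (f := cα) (g := cβ) fun c => Fintype.equivOfCardEq (hc c),
    fun a => Equiv.ofFiberEquiv_map _ a⟩

variable {C : Type u} [Category.{v} C] [Preadditive C] [HasBinaryBiproducts C]
  [IsIdempotentComplete C]

/-- An invertible square matrix of morphisms between two objects gives an isomorphism. -/
theorem nonempty_iso_of_matrix {F G : C} [IsArtinianRing (End F)] [IsArtinianRing (End G)] {d : ℕ}
    (hd : 0 < d) (A : Fin d → Fin d → (F ⟶ G)) (B : Fin d → Fin d → (G ⟶ F))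
    (h1 : ∀ a a', ∑ b, A a b ≫ B b a' = if a = a' then 𝟙 F else 0)
    (h2 : ∀ a a', ∑ b, B a b ≫ A b a' = if a = a' then 𝟙 G else 0) : Nonempty (F ≅ G) := by
  classical
  obtain ⟨n, Fs, hFs, ⟨dF⟩⟩ := exists_dec F
  obtain ⟨m, Gs, hGs, ⟨dG⟩⟩ := exists_dec G
  have hmat : ∀ {F G : C} {n m : ℕ} {Fs : Fin n → C} {Gs : Fin m → C} (dF : Dec F Fs) (dG : Dec G Gs)
      (A : Fin d → Fin d → (F ⟶ G)) (B : Fin d → Fin d → (G ⟶ F)),
      (∀ a a', ∑ b, A a b ≫ B b a' = if a = a' then 𝟙 F else 0) →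
      ∀ x x' : Fin d × Fin n, ∑ y : Fin d × Fin m,
        (dF.inj x.2 ≫ A x.1 y.1 ≫ dG.proj y.2) ≫ (dG.inj y.2 ≫ B y.1 x'.1 ≫ dF.proj x'.2) =
        if x.1 = x'.1 then dF.inj x.2 ≫ dF.proj x'.2 else 0 := by
    intro F G n m Fs Gs dF dG A B h x x'
    rw [Fintype.sum_prod_type]
    simp only [Category.assoc, ← Preadditive.comp_sum]
    simp only [← Category.assoc (dG.proj _), ← Preadditive.sum_comp, dG.total, Category.id_comp]
    simp only [← Category.assoc (A _ _), ← Preadditive.comp_sum, ← Preadditive.sum_comp, h]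
    split_ifs <;> simp
  obtain ⟨σ, hσ⟩ := matrix_match _ rfl (fun x : Fin d × Fin n => Fs x.2) (fun y : Fin d × Fin m => Gs y.2)
    (fun x => by haveI := isArtinianRing_of_retract _ _ (dF.inj_proj x.2); exact (hFs x.2).isLocalRing)
    (fun y => by haveI := isArtinianRing_of_retract _ _ (dG.inj_proj y.2); exact (hGs y.2).isLocalRing)
    (fun x y => dF.inj x.2 ≫ A x.1 y.1 ≫ dG.proj y.2) (fun y x => dG.inj y.2 ≫ B y.1 x.1 ≫ dF.proj x.2)
    (fun x => (hmat dF dG A B h1 x x).trans (by rw [if_pos rfl, dF.inj_proj]))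
    (fun x x' hne => (hmat dF dG A B h1 x x').trans (by
      split_ifs with h
      · exact dF.inj_proj_ne _ _ fun h' => hne (Prod.ext h h')
      · rfl))
    (fun y => (hmat dG dF B A h2 y y).trans (by rw [if_pos rfl, dG.inj_proj]))
    (fun y y' hne => (hmat dG dF B A h2 y y').trans (by
      split_ifs with h
      · exact dG.inj_proj_ne _ _ fun h' => hne (Prod.ext h h')
      · rfl))
  letI st : Setoid C := isIsomorphicSetoid C
  obtain ⟨e, he⟩ := exists_equiv_of_prod (fun i => Quotient.mk st (Fs i)) (fun j => Quotient.mk st (Gs j))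
    hd σ fun x => (Quotient.sound (hσ x)).symm
  choose i hi using fun a => (⟨(Quotient.exact (he a)).some.symm, trivial⟩ :
    ∃ _ : Fs a ≅ Gs (e a), True)
  refine ⟨{ hom := ∑ a, dF.proj a ≫ (i a).hom ≫ dG.inj (e a)
            inv := ∑ a, dG.proj (e a) ≫ (i a).inv ≫ dF.inj a
            hom_inv_id := ?_
            inv_hom_id := ?_ }⟩
  · simp only [Preadditive.sum_comp, Preadditive.comp_sum, Category.assoc]
    refine Eq.trans (Finset.sum_congr rfl fun a _ => ?_) dF.total
    rw [Finset.sum_eq_single a (fun b _ hb => by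
      rw [reassoc_of% (dG.inj_proj_ne (e b) (e a) fun h => hb (e.injective h)), zero_comp, comp_zero,
        comp_zero]) (by simp), reassoc_of% (dG.inj_proj (e a)), Iso.hom_inv_id_assoc]
  · simp only [Preadditive.sum_comp, Preadditive.comp_sum, Category.assoc]
    refine Eq.trans (Finset.sum_congr rfl fun a _ => ?_)
      (((Equiv.sum_comp e fun b => dG.proj b ≫ dG.inj b)).trans dG.total)
    rw [Finset.sum_eq_single a (fun b _ hb => by
      rw [reassoc_of% (dF.inj_proj_ne b a hb), zero_comp, comp_zero, comp_zero]) (by simp),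
      reassoc_of% (dF.inj_proj a), Iso.inv_hom_id_assoc]

end Cancel

open W4c1astiltbs12

variable {k : Type u} [Field k] {X : Scheme.{u}} (p : X ⟶ Spec (CommRingCat.of k))
  (K : Type u) [Field K] [Algebra k K]

theorem sq : IsPullback (proj p K) (W4bk4gw11416.baseChangeTo p K) p
    (Spec.map (CommRingCat.ofHom (algebraMap k K))) :=
  IsPullback.of_hasPullback _ _

theorem isField_Γ (k : Type u) [Field k] : IsField Γ(Spec (CommRingCat.of k), ⊤) :=
  MulEquiv.isField (Field.toIsField k)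
    (Scheme.ΓSpecIso (CommRingCat.of k)).commRingCatIsoToRingEquiv.toMulEquiv

theorem isIntegral_baseAlg [Algebra.IsAlgebraic k K] :
    letI := baseAlg (Spec.map (CommRingCat.ofHom (algebraMap k K)))
    Algebra.IsIntegral Γ(Spec (CommRingCat.of k), ⊤) Γ(Spec (CommRingCat.of K), ⊤) := by
  letI := baseAlg (Spec.map (CommRingCat.ofHom (algebraMap k K)))
  refine algebraMap_isIntegral_iff.mp ?_
  have e : (Spec.map (CommRingCat.ofHom (algebraMap k K))).appLE ⊤ ⊤ le_top =
      (Scheme.ΓSpecIso (CommRingCat.of k)).hom ≫ CommRingCat.ofHom (algebraMap k K) ≫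
        (Scheme.ΓSpecIso (CommRingCat.of K)).inv := by
    rw [← Category.assoc, ← Scheme.ΓSpecIso_naturality, Category.assoc, Iso.hom_inv_id,
      Category.comp_id]
    simp [Scheme.Hom.appLE]
  rw [RingHom.algebraMap_toAlgebra, e, CommRingCat.hom_comp, CommRingCat.hom_comp]
  exact RingHom.IsIntegral.trans _ _
    (RingHom.isIntegral_of_surjective _
      (Scheme.ΓSpecIso (CommRingCat.of k)).commRingCatIsoToRingEquiv.surjective)
    (RingHom.IsIntegral.trans _ _ (algebraMap_isIntegral_iff.mpr (inferInstance : Algebra.IsIntegral k K))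
      (RingHom.isIntegral_of_surjective _
        (Scheme.ΓSpecIso (CommRingCat.of K)).commRingCatIsoToRingEquiv.symm.surjective))

variable [IsProper p]

include p in
theorem compactSpace : CompactSpace X := QuasiCompact.compactSpace_of_compactSpace p

include p in
theorem isArtinian (F : X.Modules) (hF : Coh.IsCoh F) : IsArtinianRing (End F) :=
  isArtinianRing_end k p F hF

/-- Base change is faithful. -/
theorem bcMod_map_eq_zero (F G : X.Modules) (hG : Coh.IsCoh G) (φ : F ⟶ G)
    (h : (Scheme.Modules.pullback (proj p K)).map φ = 0) : φ = 0 := by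
  haveI := hG.1
  letI := baseAlg (Spec.map (CommRingCat.ofHom (algebraMap k K)))
  letI : Field Γ(Spec (CommRingCat.of k), ⊤) := (isField_Γ k).toField
  haveI : Nontrivial Γ(Spec (CommRingCat.of K), ⊤) := ⟨(isField_Γ K).exists_pair_ne⟩
  obtain ⟨l, hl⟩ := LinearMap.exists_leftInverse_of_injective
    (Algebra.linearMap Γ(Spec (CommRingCat.of k), ⊤) Γ(Spec (CommRingCat.of K), ⊤))
    (LinearMap.ker_eq_bot.mpr (RingHom.injective _))
  have hl1 : l 1 = 1 := by simpa using LinearMap.congr_fun hl 1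
  have h0 := coeff_eq_zero (sq p K) F G ({0} : Finset ℕ) (fun _ => 1) (fun _ => φ)
    (by rw [Finset.sum_singleton, h, zero_comp]) l
  rwa [Finset.sum_singleton, hl1, map_one, scal_one, Category.comp_id] at h0

/-- Descent of isomorphism. -/
theorem nonempty_iso [Algebra.IsAlgebraic k K] (F G : X.Modules) (hF : Coh.IsCoh F) (hG : Coh.IsCoh G)
    (e : bcMod p K F ≅ bcMod p K G) : Nonempty (F ≅ G) := by
  haveI := hF.1
  haveI := hF.2
  haveI := hG.1
  haveI := hG.2
  haveI := compactSpace p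
  haveI := isArtinian p F hF
  haveI := isArtinian p G hG
  obtain ⟨d, A, B, hd, h1, h2⟩ := exists_matrix (sq p K) (isField_Γ k) (isField_Γ K)
    (isIntegral_baseAlg K) F G e.hom e.inv e.hom_inv_id e.inv_hom_id
  exact nonempty_iso_of_matrix hd A B h1 h2

/-- An indecomposable object whose base change is a retract of a sum of base changes is a
retract of one of the summands. -/
theorem exists_retract {E : X.Modules} (hE : Coh.IsCoh E) (hEi : Indec E) {J : Type*} (t : Finset J)
    (Gs : J → X.Modules) (hG : ∀ a, Coh.IsCoh (Gs a))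
    (x : ∀ a, bcMod p K E ⟶ bcMod p K (Gs a)) (y : ∀ a, bcMod p K (Gs a) ⟶ bcMod p K E)
    (h : ∑ a ∈ t, x a ≫ y a = 𝟙 _) :
    ∃ a ∈ t, ∃ (φ : E ⟶ Gs a) (γ : Gs a ⟶ E), φ ≫ γ = 𝟙 E := by
  classical
  haveI := hE.1
  haveI := hE.2
  haveI := compactSpace p
  haveI := isArtinian p E hE
  haveI := hEi.isLocalRing
  letI := baseAlg (Spec.map (CommRingCat.ofHom (algebraMap k K)))
  letI : Field Γ(Spec (CommRingCat.of k), ⊤) := (isField_Γ k).toField
  haveI : Nontrivial Γ(Spec (CommRingCat.of K), ⊤) := ⟨(isField_Γ K).exists_pair_ne⟩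
  obtain ⟨l, hl⟩ := LinearMap.exists_leftInverse_of_injective
    (Algebra.linearMap Γ(Spec (CommRingCat.of k), ⊤) Γ(Spec (CommRingCat.of K), ⊤))
    (LinearMap.ker_eq_bot.mpr (RingHom.injective _))
  have hl1 : l 1 = 1 := by simpa using LinearMap.congr_fun hl 1
  let bas := Module.Free.chooseBasis Γ(Spec (CommRingCat.of k), ⊤) Γ(Spec (CommRingCat.of K), ⊤)
  have hx : ∀ a, ∃ (s : Finset _) (φ : _ → (E ⟶ Gs a)), x a = ∑ i ∈ s,
      (Scheme.Modules.pullback (proj p K)).map (φ i) ≫
        Tm (W4bk4gw11416.baseChangeTo p K) _ (bas i) := fun a => by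
    haveI := (hG a).1
    exact exists_sum (sq p K) E (Gs a) bas (x a)
  have hy : ∀ a, ∃ (s : Finset _) (γ : _ → (Gs a ⟶ E)), y a = ∑ i ∈ s,
      (Scheme.Modules.pullback (proj p K)).map (γ i) ≫
        Tm (W4bk4gw11416.baseChangeTo p K) _ (bas i) := fun a => by
    haveI := (hG a).1
    haveI := (hG a).2
    exact exists_sum (sq p K) (Gs a) E bas (y a)
  choose sx φ hφ using hx
  choose sy γ hγ using hy
  let I := Module.Free.ChooseBasisIndex Γ(Spec (CommRingCat.of k), ⊤) Γ(Spec (CommRingCat.of K), ⊤)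
  let ch : Option (J × I × I) → Γ(Spec (CommRingCat.of K), ⊤) :=
    fun o => o.elim (-1) fun z => bas z.2.2 * bas z.2.1
  let ψ : Option (J × I × I) → (E ⟶ E) := fun o => o.elim (𝟙 E) fun z => φ z.1 z.2.1 ≫ γ z.1 z.2.2
  let S : Finset (J × I × I) := t.biUnion fun a => {a} ×ˢ (sx a ×ˢ sy a)
  have hsum : ∀ {A : Type u} [AddCommMonoid A] (F : J × I × I → A),
      ∑ z ∈ S, F z = ∑ a ∈ t, ∑ i ∈ sx a, ∑ j ∈ sy a, F (a, i, j) := fun F => by
    rw [Finset.sum_biUnion]
    · exact Finset.sum_congr rfl fun a _ => by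
        rw [Finset.sum_product, Finset.sum_singleton, Finset.sum_product]
    · intro a _ b _ hab
      exact Finset.disjoint_left.mpr fun z h1 h2 => hab (by
        simp only [Finset.mem_product, Finset.mem_singleton] at h1 h2
        exact h1.1.symm.trans h2.1)
  have h0 : ∑ o ∈ Finset.insertNone S, (Scheme.Modules.pullback (proj p K)).map (ψ o) ≫
      Tm (W4bk4gw11416.baseChangeTo p K) _ (ch o) = 0 := by
    rw [Finset.sum_insertNone, hsum]
    simp only [ψ, ch, Option.elim, CategoryTheory.Functor.map_id, Category.id_comp]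
    rw [Tm, map_neg, map_one, scal_neg, scal_one]
    simp only [← pair_comp, ← Preadditive.comp_sum, ← Preadditive.sum_comp, ← hφ, ← hγ]
    rw [h, neg_add_cancel]
  have hc := coeff_eq_zero (sq p K) E E _ ch ψ h0 l
  rw [Finset.sum_insertNone, hsum] at hc
  simp only [ψ, ch, Option.elim, Category.id_comp] at hc
  rw [map_neg, map_neg, scal_neg, hl1, map_one, scal_one, neg_add_eq_zero] at hc
  obtain ⟨z, hz, hu⟩ : ∃ z ∈ S, IsUnit (End.of ((φ z.1 z.2.1 ≫ γ z.1 z.2.2) ≫
      scal E (p.appTop (l (bas z.2.2 * bas z.2.1)))) : End E) := by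
    by_contra hcon
    push Not at hcon
    have : (1 : End E) ∈ nonunits (End E) := by
      rw [show (1 : End E) = _ from hc.trans (hsum fun z => End.of ((φ z.1 z.2.1 ≫ γ z.1 z.2.2) ≫
        scal E (p.appTop (l (bas z.2.2 * bas z.2.1))))).symm]
      exact Finset.sum_induction _ _ (fun a b => IsLocalRing.nonunits_add)
        (mem_nonunits_iff.mpr not_isUnit_zero) hcon
    exact this isUnit_one
  haveI : IsIso ((φ z.1 z.2.1 ≫ γ z.1 z.2.2) ≫ scal E (p.appTop (l (bas z.2.2 * bas z.2.1)))) :=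
    (isUnit_iff_isIso _).mp hu
  refine ⟨z.1, ?_, φ z.1 z.2.1,
    γ z.1 z.2.2 ≫ scal E (p.appTop (l (bas z.2.2 * bas z.2.1))) ≫
      inv ((φ z.1 z.2.1 ≫ γ z.1 z.2.2) ≫ scal E (p.appTop (l (bas z.2.2 * bas z.2.1)))),
    by rw [← Category.assoc, ← Category.assoc]; exact IsIso.hom_inv_id _⟩
  obtain ⟨a, ha, h'⟩ := Finset.mem_biUnion.mp hz
  rwa [Finset.mem_singleton.mp (Finset.mem_product.mp h').1]

omit [IsProper p] in
/-- A retract of an indecomposable module by a nonzero module is the module itself. -/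
theorem iso_of_retract {E G : X.Modules} (hE0 : ¬ IsZero E) (hG : Indec G) (φ : E ⟶ G) (γ : G ⟶ E)
    (h : φ ≫ γ = 𝟙 E) : Nonempty (E ≅ G) := by
  rcases hG.idem (γ ≫ φ) (by rw [Category.assoc, reassoc_of% h]) with h0 | h1
  · refine absurd ((IsZero.iff_id_eq_zero E).mpr ?_) hE0
    calc 𝟙 E = φ ≫ (γ ≫ φ) ≫ γ := by rw [Category.assoc, reassoc_of% h, h]
      _ = 0 := by rw [h0, zero_comp, comp_zero]
  · exact ⟨⟨φ, γ, h, h1⟩⟩

/-- The base change of a nonzero coherent module is nonzero. -/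
theorem not_isZero_bcMod {E : X.Modules} (hE : Coh.IsCoh E) (h0 : ¬ IsZero E) :
    ¬ IsZero (bcMod p K E) := fun hz =>
  h0 ((IsZero.iff_id_eq_zero E).mpr (bcMod_map_eq_zero p K E E hE _
    ((CategoryTheory.Functor.map_id _ _).trans ((IsZero.iff_id_eq_zero _).mp hz))))

end Groth.Agent.KSMod
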