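import Groth.Agent.KSMod.Multiplicity
import Groth.Agent.S18573
import Groth.Agent.GITLib.RigidGroup
import Groth.Agent.CohOps.PnSmooth
import Groth.Agent.ProjProper.Basic
import Groth.Agent.ProjTwist.Zero
import Groth.Agent.ProjTwist.Tensor
import Groth.Prelude.Def_BrSev

/-!
# Global functions on base changes; split Severi–Brauer varieties
-/

set_option autoImplicit false
universe u

open CategoryTheory CategoryTheory.Limits AlgebraicGeometry Opposite TopologicalSpace
open W4c1astiltbs12 Groth.Agent.QCoh Groth.Agent.Props.GenLocus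

noncomputable section

namespace Groth.Agent.KSMod

theorem scal_injective {X : Scheme.{u}} {L : X.Modules} (hL : PicF.IsInvertible L) {r s : Γ(X, ⊤)}
    (h : scal L r = scal L s) : r = s := by
  choose U e hU he using fun x : X => exists_isGen hL x
  refine TopCat.Sheaf.eq_of_locally_eq' X.sheaf U ⊤ (fun x => homOfLE le_top)
    (fun x _ => Opens.mem_iSup.mpr ⟨x, hU x⟩) r s fun x => ?_
  change rtop X (U x) r = rtop X (U x) s
  refine (he x).injective le_rfl ?_
  rw [res_self, ← scal_app, ← scal_app, h]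

variable {k : Type u} [Field k] {X : Scheme.{u}} (p : X ⟶ Spec (CommRingCat.of k)) [IsProper p]
  (K : Type u) [Field K] [Algebra k K]

/-- Constant global functions stay constant after a field extension. -/
theorem surjective_appTop_baseChange (hO : Function.Surjective p.appTop) :
    Function.Surjective (W4bk4gw11416.baseChangeTo p K).appTop := by
  intro r
  have hO₁ := PicLoc.isInvertible_structureModule X
  have hc : Coh.IsCoh (Coh.structureModule X) :=
    VBLib.isCoh_of_ofRank (ProjTwist.isFinLocFreeOfRank_one hO₁)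
  haveI := hc.1
  haveI := hc.2
  haveI := compactSpace p
  letI := baseAlg (Spec.map (CommRingCat.ofHom (algebraMap k K)))
  letI : Field Γ(Spec (CommRingCat.of k), ⊤) := (isField_Γ k).toField
  let bas := Module.Free.chooseBasis Γ(Spec (CommRingCat.of k), ⊤) Γ(Spec (CommRingCat.of K), ⊤)
  obtain ⟨s, φ, hφ⟩ := exists_sum (sq p K) (Coh.structureModule X) (Coh.structureModule X) bas
    (scal ((Scheme.Modules.pullback (proj p K)).obj (Coh.structureModule X)) r)
  have hex : ∀ i, ∃ a, φ i = scal (Coh.structureModule X) (p.appTop a) := fun i => by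
    obtain ⟨t, ht⟩ := exists_eq_scal hO₁ (φ i)
    obtain ⟨a, rfl⟩ := hO t
    exact ⟨a, ht⟩
  choose a ha using hex
  refine ⟨∑ i ∈ s, bas i * algebraMap Γ(Spec (CommRingCat.of k), ⊤) Γ(Spec (CommRingCat.of K), ⊤) (a i),
    scal_injective (PicLoc.isInvertible_pullback (proj p K) hO₁) (Eq.trans ?_ hφ.symm)⟩
  rw [map_sum, scal_sum]
  refine Finset.sum_congr rfl fun i _ => ?_
  rw [ha i, map_scal (sq p K).w, Tm, Tm, scal_comp, ← map_mul]

variable {p K}

theorem connectedSpace_of_splitting {n : ℕ} (e : BrSev.Splitting p K n) :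
    ConnectedSpace ↥(W4bk4gw11416.baseChange p K) := by
  haveI := S18573.irreducibleSpace_projSpace n K
  exact (Scheme.homeoOfIso e.iso).symm.surjective.connectedSpace
    (Scheme.homeoOfIso e.iso).symm.continuous

theorem surjective_appTop_of_splitting [IsAlgClosed K] {n : ℕ} (e : BrSev.Splitting p K n) :
    Function.Surjective (W4bk4gw11416.baseChangeTo p K).appTop := by
  haveI : Smooth (CohB1.ProjSpace.toSpec n K) := CohOps.PnSmooth.smooth_toSpec n K
  haveI := ProjProper.Basic.isProper_toSpec n K
  haveI := S18573.irreducibleSpace_projSpace n K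
  haveI : IsReduced (CohB1.ProjSpace n K) := GITLib.Rigid.isReduced_of_smooth (CohB1.ProjSpace.toSpec n K)
  have h := (GITLib.Rigid.bijective_appTop (CohB1.ProjSpace.toSpec n K)).2
  intro r
  obtain ⟨c, hc⟩ := h (e.iso.inv.appTop r)
  refine ⟨c, ?_⟩
  change (BrSev.bcTo p K).appTop c = r
  rw [← e.comm, Scheme.Hom.comp_appTop]
  change e.iso.hom.appTop ((CohB1.ProjSpace.toSpec n K).appTop c) = r
  rw [hc]
  exact ConcreteCategory.congr_hom
    (show e.iso.inv.appTop ≫ e.iso.hom.appTop = 𝟙 _ by
      rw [← Scheme.Hom.comp_appTop, e.iso.hom_inv_id, Scheme.Hom.id_appTop]) r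

theorem isInvertible_twist {n : ℕ} (e : BrSev.Splitting p K n) (j : ℤ) :
    PicF.IsInvertible (e.twist j) :=
  PicLoc.isInvertible_pullback e.iso.hom (ProjTwist.isInvertible_twistProjSpace n K j)

theorem nonempty_twist_tensor {n : ℕ} (e : BrSev.Splitting p K n) (a b : ℤ) :
    Nonempty (CohB1.tensorMod (e.twist a) (e.twist b) ≅ e.twist (a + b)) := by
  obtain ⟨φ⟩ := ProjTwist.nonempty_twistProjSpace_tensor n K a b
  obtain ⟨ψ⟩ := PicLaw.pullback_tensor e.iso.hom (ProjTwist.isInvertible_twistProjSpace n K a)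
    (ProjTwist.isInvertible_twistProjSpace n K b)
  exact ⟨ψ.symm ≪≫ (Scheme.Modules.pullback e.iso.hom).mapIso φ⟩

theorem nonempty_twist_zero {n : ℕ} (e : BrSev.Splitting p K n) :
    Nonempty (e.twist 0 ≅ Coh.structureModule _) := by
  letI := PicLaw.law (BrSev.bc p K)
  letI := PicLaw.law (CohB1.ProjSpace n K)
  obtain ⟨φ⟩ : Nonempty ((Scheme.Modules.pullback e.iso.hom).obj (Coh.structureModule _) ≅
      Coh.structureModule (BrSev.bc p K)) :=
    (PicGrp.cls_eq_one_iff
      (PicLoc.isInvertible_pullback e.iso.hom (PicLoc.isInvertible_structureModule _))).mp (by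
      rw [← PicGrp.pullHom_cls e.iso.hom (PicLaw.pullMul _) _ (PicLoc.isInvertible_structureModule _),
        PicGrp.cls_structureModule_eq_one, map_one])
  exact ⟨((Scheme.Modules.pullback e.iso.hom).mapIso
    (ProjTwist.twistZeroIso (𝒜 := CohB1.polyGrading n K))).symm ≪≫ φ⟩

end Groth.Agent.KSMod
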