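import Groth.Agent.KSMod.GalDivision
import Groth.Agent.KSMod.Global
import Mathlib.Algebra.CharP.Reduced
import Mathlib.Algebra.CharP.Lemmas

/-!
# Isotypy of indecomposable modules which split into invariant invertible modules

`π : X' ⟶ X` with endomorphisms `g σ` over `X`, `χ` a residue map of the global functions of `X'`
whose invariants are radicial over the global functions of `X`.
-/

set_option autoImplicit false
universe u

open CategoryTheory CategoryTheory.Limits AlgebraicGeometry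
open scoped Classical

noncomputable section

namespace Groth.Agent.KSMod

/-- Pullback of multiplication by a global function. -/
theorem pull_scal {X X' : Scheme.{u}} (h : X' ⟶ X) (M : X.Modules) (r : Γ(X, ⊤)) :
    (Scheme.Modules.pullback h).map (scal M r) =
      scal ((Scheme.Modules.pullback h).obj M) (h.appTop r) := by
  have := map_scal (p := h) (f := 𝟙 X) (q := 𝟙 X') (g := h)
    ((Category.comp_id h).trans (Category.id_comp h).symm) M r
  simpa [Tm, baseAlg, RingHom.algebraMap_toAlgebra, Scheme.Hom.appLE] using this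

section Residue

variable {Y : Scheme.{u}} {F : Type u} [Field F] (χ : Γ(Y, ⊤) →+* F)

/-- The residue of an endomorphism of an invertible module. -/
def θ {L : Y.Modules} (hL : PicF.IsInvertible L) (φ : L ⟶ L) : F :=
  χ (exists_eq_scal hL φ).choose

variable {L : Y.Modules} (hL : PicF.IsInvertible L)

theorem θ_scal (r : Γ(Y, ⊤)) : θ χ hL (scal L r) = χ r :=
  congrArg χ (scal_injective hL (exists_eq_scal hL (scal L r)).choose_spec).symm

theorem eq_scal_choose (φ : L ⟶ L) : ∃ r, φ = scal L r ∧ θ χ hL φ = χ r := by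
  obtain ⟨r, rfl⟩ := exists_eq_scal hL φ
  exact ⟨r, rfl, θ_scal χ hL r⟩

theorem θ_id : θ χ hL (𝟙 L) = 1 := by rw [← scal_one, θ_scal, map_one]

theorem θ_zero : θ χ hL 0 = 0 := by rw [← scal_zero L, θ_scal, map_zero]

theorem θ_add (a b : L ⟶ L) : θ χ hL (a + b) = θ χ hL a + θ χ hL b := by
  obtain ⟨r, rfl, hr⟩ := eq_scal_choose χ hL a
  obtain ⟨s, rfl, hs⟩ := eq_scal_choose χ hL b
  rw [hr, hs, ← scal_add, θ_scal, map_add]

theorem θ_comp (a b : L ⟶ L) : θ χ hL (a ≫ b) = θ χ hL a * θ χ hL b := by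
  obtain ⟨r, rfl, hr⟩ := eq_scal_choose χ hL a
  obtain ⟨s, rfl, hs⟩ := eq_scal_choose χ hL b
  rw [hr, hs, scal_comp, θ_scal, map_mul, mul_comm]

theorem θ_sum {J : Type*} (t : Finset J) (a : J → (L ⟶ L)) :
    θ χ hL (∑ i ∈ t, a i) = ∑ i ∈ t, θ χ hL (a i) :=
  map_sum (AddMonoidHom.mk' (θ χ hL) (θ_add χ hL)) a t

theorem isIso_of_θ (hχu : ∀ r, χ r ≠ 0 → IsUnit r) (a : L ⟶ L) (h : θ χ hL a ≠ 0) : IsIso a := by
  obtain ⟨r, rfl, hr⟩ := eq_scal_choose χ hL a
  exact (isUnit_iff_isIso _).mp ((hχu r (hr ▸ h)).map (scalHom L))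

theorem θ_through (hχu : ∀ r, χ r ≠ 0 → IsUnit r) (hL0 : ¬ IsZero L) {T : Y.Modules} (hT : Indec T)
    (hne : ¬ Nonempty (L ≅ T)) (a : L ⟶ T) (b : T ⟶ L) : θ χ hL (a ≫ b) = 0 := by
  by_contra h
  haveI := isIso_of_θ χ hL hχu (a ≫ b) h
  exact hne (iso_of_retract hL0 hT a (b ≫ inv (a ≫ b))
    (by rw [← Category.assoc]; exact IsIso.hom_inv_id _))

end Residue

variable {X X' : Scheme.{u}} (π : X' ⟶ X) {F : Type u} [Field F] (χ : Γ(X', ⊤) →+* F)

/-- A central residue does not depend on the retraction. -/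
theorem θ_eq_of_scalar (hχu : ∀ r, χ r ≠ 0 → IsUnit r) {M : X'.Modules} {n : ℕ}
    {Ls : Fin n → X'.Modules} (d : Dec M Ls) (hLs : ∀ i, Indec (Ls i)) {L : X'.Modules}
    (hL : PicF.IsInvertible L) (hL0 : ¬ IsZero L) (φ : ∀ i : {i // Nonempty (L ≅ Ls i)}, L ≅ Ls i.1)
    (h : M ⟶ M) (c : F)
    (hc : ∀ a b, θ χ hL ((φ a).hom ≫ d.inj a.1 ≫ h ≫ d.proj b.1 ≫ (φ b).inv) = if a = b then c else 0)
    (u : L ⟶ M) (v : M ⟶ L) : θ χ hL (u ≫ h ≫ v) = c * θ χ hL (u ≫ v) := by
  classical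
  have e1 : ∀ k : M ⟶ L, u ≫ k = ∑ i, (u ≫ d.proj i) ≫ (d.inj i ≫ k) := fun k => by
    conv_lhs => rw [← Category.id_comp k, ← d.total]
    simp [Preadditive.comp_sum, Preadditive.sum_comp]
  have e2 : ∀ (T : X'.Modules) (w : T ⟶ M), w ≫ h ≫ v = ∑ j, (w ≫ h ≫ d.proj j) ≫ (d.inj j ≫ v) :=
    fun T w => by
      conv_lhs => rw [← Category.id_comp v, ← d.total]
      simp [Preadditive.comp_sum, Preadditive.sum_comp]
  have hex : ∀ (k : M ⟶ L), θ χ hL (u ≫ k) =
      ∑ a : {i // Nonempty (L ≅ Ls i)}, θ χ hL (u ≫ d.proj a.1 ≫ (φ a).inv) *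
        θ χ hL ((φ a).hom ≫ d.inj a.1 ≫ k) := fun k => by
    rw [e1 k, θ_sum, ← Finset.sum_subset (Finset.subset_univ
      (Finset.univ.filter fun i => Nonempty (L ≅ Ls i))) (fun i _ hi => θ_through χ hL hχu hL0 (hLs i)
        (fun h => hi (Finset.mem_filter.mpr ⟨Finset.mem_univ i, h⟩)) _ _),
      Finset.sum_subtype (Finset.univ.filter fun i => Nonempty (L ≅ Ls i))
        (p := fun i => Nonempty (L ≅ Ls i)) (fun i => by simp)]
    refine Finset.sum_congr rfl fun a _ => ?_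
    rw [← θ_comp]
    congr 1
    simp
  rw [hex (h ≫ v), hex v, Finset.mul_sum]
  refine Finset.sum_congr rfl fun a _ => ?_
  rw [mul_left_comm c]
  congr 1
  rw [show (φ a).hom ≫ d.inj a.1 ≫ h ≫ v = ((φ a).hom ≫ d.inj a.1) ≫ h ≫ v from
    (Category.assoc _ _ _).symm, e2 _ _, θ_sum, ← Finset.sum_subset (Finset.subset_univ
      (Finset.univ.filter fun i => Nonempty (L ≅ Ls i))) (fun i _ hi => θ_through χ hL hχu hL0 (hLs i)
        (fun h => hi (Finset.mem_filter.mpr ⟨Finset.mem_univ i, h⟩)) _ _),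
    Finset.sum_subtype (Finset.univ.filter fun i => Nonempty (L ≅ Ls i))
      (p := fun i => Nonempty (L ≅ Ls i)) (fun i => by simp)]
  rw [Finset.sum_eq_single a]
  · have := hc a a
    rw [if_pos rfl] at this
    rw [← this, ← θ_comp]
    congr 1
    simp
  · intro b _ hb
    have := hc a b
    rw [if_neg (Ne.symm hb)] at this
    rw [show ((((φ a).hom ≫ d.inj a.1) ≫ h ≫ d.proj b.1) ≫ d.inj b.1 ≫ v) =
      ((φ a).hom ≫ d.inj a.1 ≫ h ≫ d.proj b.1 ≫ (φ b).inv) ≫ ((φ b).hom ≫ d.inj b.1 ≫ v) by simp,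
      θ_comp, this, zero_mul]
  · simp
  all_goals infer_instance

/-- The residue representation on the components of one type. -/
theorem exists_rep (hχu : ∀ r, χ r ≠ 0 → IsUnit r) (E : X.Modules) {n : ℕ}
    {Ls : Fin n → X'.Modules} (d : Dec ((Scheme.Modules.pullback π).obj E) Ls)
    (hLs : ∀ i, Indec (Ls i)) {L : X'.Modules} (hL : PicF.IsInvertible L) (hL0 : ¬ IsZero L)
    (φ : ∀ i : {i // Nonempty (L ≅ Ls i)}, L ≅ Ls i.1) :
    ∃ ρ : End E →+* Matrix {i // Nonempty (L ≅ Ls i)} {i // Nonempty (L ≅ Ls i)} F,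
      ∀ f a b, ρ f b a = θ χ hL ((φ a).hom ≫ d.inj a.1 ≫
        (Scheme.Modules.pullback π).map (End.asHom f) ≫ d.proj b.1 ≫ (φ b).inv) := by
  classical
  refine ⟨{ toFun := fun f b a => θ χ hL ((φ a).hom ≫ d.inj a.1 ≫
      (Scheme.Modules.pullback π).map (End.asHom f) ≫ d.proj b.1 ≫ (φ b).inv)
            map_one' := ?_, map_mul' := ?_, map_zero' := ?_, map_add' := ?_ }, fun f a b => rfl⟩
  · ext b a
    change θ χ hL (_ ≫ _ ≫ (Scheme.Modules.pullback π).map (𝟙 E) ≫ _) = _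
    rw [CategoryTheory.Functor.map_id, Category.id_comp, Matrix.one_apply]
    split_ifs with h
    · subst h
      rw [reassoc_of% (d.inj_proj b.1), Iso.hom_inv_id, θ_id]
    · rw [reassoc_of% (d.inj_proj_ne a.1 b.1 fun e => h (Subtype.ext e.symm)), zero_comp, comp_zero,
        θ_zero]
  · intro f g
    ext c a
    change θ χ hL (_ ≫ _ ≫ (Scheme.Modules.pullback π).map (End.asHom g ≫ End.asHom f) ≫ _) = _
    rw [Functor.map_comp, Category.assoc, Matrix.mul_apply]
    set P := (Scheme.Modules.pullback π).map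
    have e : (φ a).hom ≫ d.inj a.1 ≫ P (End.asHom g) ≫ P (End.asHom f) ≫ d.proj c.1 ≫ (φ c).inv =
        ∑ i, ((φ a).hom ≫ d.inj a.1 ≫ P (End.asHom g) ≫ d.proj i) ≫
          (d.inj i ≫ P (End.asHom f) ≫ d.proj c.1 ≫ (φ c).inv) := by
      conv_lhs => rw [← Category.id_comp (P (End.asHom f)), ← d.total]
      simp [Preadditive.comp_sum, Preadditive.sum_comp]
    rw [e, θ_sum, ← Finset.sum_subset (Finset.subset_univ
      (Finset.univ.filter fun i => Nonempty (L ≅ Ls i))) (fun i _ hi => θ_through χ hL hχu hL0 (hLs i)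
        (fun h => hi (Finset.mem_filter.mpr ⟨Finset.mem_univ i, h⟩)) _ _),
      Finset.sum_subtype (Finset.univ.filter fun i => Nonempty (L ≅ Ls i))
        (p := fun i => Nonempty (L ≅ Ls i)) (fun i => by simp)]
    refine Finset.sum_congr rfl fun b _ => ?_
    rw [mul_comm, ← θ_comp]
    congr 1
    simp
  · ext b a
    change θ χ hL (_ ≫ _ ≫ (Scheme.Modules.pullback π).map (0 : E ⟶ E) ≫ _) = _
    rw [Functor.map_zero, zero_comp, comp_zero, comp_zero, θ_zero]
    rfl
  · intro f g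
    ext b a
    change θ χ hL (_ ≫ _ ≫ (Scheme.Modules.pullback π).map (End.asHom f + End.asHom g) ≫ _) = _
    rw [Functor.map_add, Preadditive.add_comp, Preadditive.comp_add, Preadditive.comp_add, θ_add]
    rfl

/-- Indecomposable modules splitting into invariant invertible modules are isotypical. -/
theorem nonempty_iso_of_invariant (hχ : Function.Surjective χ) (hχu : ∀ r, χ r ≠ 0 → IsUnit r)
    {G : Type*} (g : G → (X' ⟶ X')) (hg : ∀ σ, g σ ≫ π = π) (q : ℕ) [ExpChar F q]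
    (hfix : ∀ r, (∀ σ, χ ((g σ).appTop r) = χ r) →
      ∃ (m : ℕ) (s : Γ(X, ⊤)), χ r ^ q ^ m = χ (π.appTop s))
    (E : X.Modules) [IsArtinianRing (End E)] (hE : Indec E)
    (hspan : ∀ ψ : (Scheme.Modules.pullback π).obj E ⟶ (Scheme.Modules.pullback π).obj E,
      ∃ (J : Type u) (t : Finset J) (φ : J → (E ⟶ E)) (c : J → Γ(X', ⊤)),
        ψ = ∑ j ∈ t, (Scheme.Modules.pullback π).map (φ j) ≫ scal _ (c j))
    {n : ℕ} (Ls : Fin n → X'.Modules) (hLs : ∀ i, PicF.IsInvertible (Ls i))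
    (hLi : ∀ i, Indec (Ls i))
    (hinv : ∀ σ i, Nonempty ((Scheme.Modules.pullback (g σ)).obj (Ls i) ≅ Ls i))
    (d : Dec ((Scheme.Modules.pullback π).obj E) Ls) (i j : Fin n) : Nonempty (Ls i ≅ Ls j) := by
  classical
  by_contra hij
  haveI : Nontrivial (End E) := ⟨⟨0, 1, fun h => hE.1 ((IsZero.iff_id_eq_zero E).mpr h.symm)⟩⟩
  let A := {l // Nonempty (Ls i ≅ Ls l)}
  let B := {l // Nonempty (Ls j ≅ Ls l)}
  haveI : Nonempty A := ⟨⟨i, ⟨Iso.refl _⟩⟩⟩
  haveI : Nonempty B := ⟨⟨j, ⟨Iso.refl _⟩⟩⟩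
  let φ : ∀ a : A, Ls i ≅ Ls a.1 := fun a => a.2.some
  let ψ : ∀ b : B, Ls j ≅ Ls b.1 := fun b => b.2.some
  obtain ⟨ρ, hρ⟩ := exists_rep π χ hχu E d hLi (hLs i) (hLi i).1 φ
  obtain ⟨τ, hτ⟩ := exists_rep π χ hχu E d hLi (hLs j) (hLi j).1 ψ
  let Φ := ρ.prod τ
  have hdisj : ∀ (a : A) (b : B), a.1 ≠ b.1 := fun a b h =>
    hij ⟨φ a ≪≫ eqToIso (congrArg Ls h) ≪≫ (ψ b).symm⟩
  have hΦ : Submodule.span F (Set.range Φ) = ⊤ := by
    refine eq_top_iff.mpr fun M _ => ?_
    choose r hr using fun a b : A => hχ (M.1 b a)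
    choose s hs using fun a b : B => hχ (M.2 b a)
    obtain ⟨J, t, f, c, hf⟩ := hspan
      ((∑ a : A, ∑ b : A, d.proj a.1 ≫ (φ a).inv ≫ scal (Ls i) (r a b) ≫ (φ b).hom ≫ d.inj b.1) +
        ∑ a : B, ∑ b : B, d.proj a.1 ≫ (ψ a).inv ≫ scal (Ls j) (s a b) ≫ (ψ b).hom ≫ d.inj b.1)
    suffices M = ∑ l ∈ t, χ (c l) • Φ (End.of (f l)) from
      this ▸ Submodule.sum_mem _ fun l _ => Submodule.smul_mem _ _ (Submodule.subset_span ⟨_, rfl⟩)
    refine Prod.ext ?_ ?_
    · ext b a
      simp only [Prod.fst_sum, Matrix.sum_apply, Prod.smul_fst, Matrix.smul_apply, smul_eq_mul]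
      have h1 := congrArg (fun z => θ χ (hLs i) ((φ a).hom ≫ d.inj a.1 ≫ z ≫ d.proj b.1 ≫ (φ b).inv)) hf
      simp only [Preadditive.add_comp, Preadditive.comp_add, Preadditive.sum_comp, Preadditive.comp_sum,
        Category.assoc, θ_add, θ_sum] at h1
      rw [Finset.sum_eq_single a (fun a' _ h => Finset.sum_eq_zero fun b' _ => by
          rw [reassoc_of% (d.inj_proj_ne a.1 a'.1 fun e => h (Subtype.ext e.symm)), zero_comp,
            comp_zero, θ_zero]) (by simp),
        Finset.sum_eq_single b (fun b' _ h => by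
          rw [reassoc_of% (d.inj_proj_ne b'.1 b.1 fun e => h (Subtype.ext e)), zero_comp]
          simp [θ_zero]) (by simp),
        Finset.sum_eq_zero (s := (Finset.univ : Finset B)) (fun a' _ => Finset.sum_eq_zero fun b' _ => by
          rw [reassoc_of% (d.inj_proj_ne a.1 a'.1 (hdisj a a')), zero_comp, comp_zero, θ_zero]),
        add_zero, reassoc_of% (d.inj_proj a.1), reassoc_of% (d.inj_proj b.1)] at h1
      simp only [Iso.hom_inv_id_assoc, Iso.hom_inv_id, Category.comp_id, θ_scal] at h1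
      refine (hr a b).symm.trans (h1.trans (Finset.sum_congr rfl fun l _ => ?_))
      rw [show (φ a).hom ≫ d.inj a.1 ≫ (Scheme.Modules.pullback π).map (f l) ≫ scal _ (c l) ≫
          d.proj b.1 ≫ (φ b).inv = ((φ a).hom ≫ d.inj a.1 ≫ (Scheme.Modules.pullback π).map (f l) ≫
          d.proj b.1 ≫ (φ b).inv) ≫ scal (Ls i) (c l) by
        simp only [Category.assoc, reassoc_of% (scal_nat (d.proj b.1) (c l)), scal_nat],
        θ_comp, θ_scal, mul_comm]
      exact congrArg (χ (c l) * ·) (hρ (End.of (f l)) a b).symm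
    · ext b a
      simp only [Prod.snd_sum, Matrix.sum_apply, Prod.smul_snd, Matrix.smul_apply, smul_eq_mul]
      have h1 := congrArg (fun z => θ χ (hLs j) ((ψ a).hom ≫ d.inj a.1 ≫ z ≫ d.proj b.1 ≫ (ψ b).inv)) hf
      simp only [Preadditive.add_comp, Preadditive.comp_add, Preadditive.sum_comp, Preadditive.comp_sum,
        Category.assoc, θ_add, θ_sum] at h1
      rw [Finset.sum_eq_zero (s := (Finset.univ : Finset A)) (fun a' _ => Finset.sum_eq_zero fun b' _ => by
          rw [reassoc_of% (d.inj_proj_ne a.1 a'.1 (Ne.symm (hdisj a' a))), zero_comp, comp_zero, θ_zero]),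
        zero_add,
        Finset.sum_eq_single a (fun a' _ h => Finset.sum_eq_zero fun b' _ => by
          rw [reassoc_of% (d.inj_proj_ne a.1 a'.1 fun e => h (Subtype.ext e.symm)), zero_comp,
            comp_zero, θ_zero]) (by simp),
        Finset.sum_eq_single b (fun b' _ h => by
          rw [reassoc_of% (d.inj_proj_ne b'.1 b.1 fun e => h (Subtype.ext e)), zero_comp]
          simp [θ_zero]) (by simp),
        reassoc_of% (d.inj_proj a.1), reassoc_of% (d.inj_proj b.1)] at h1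
      simp only [Iso.hom_inv_id_assoc, Iso.hom_inv_id, Category.comp_id, θ_scal] at h1
      refine (hs a b).symm.trans (h1.trans (Finset.sum_congr rfl fun l _ => ?_))
      rw [show (ψ a).hom ≫ d.inj a.1 ≫ (Scheme.Modules.pullback π).map (f l) ≫ scal _ (c l) ≫
          d.proj b.1 ≫ (ψ b).inv = ((ψ a).hom ≫ d.inj a.1 ≫ (Scheme.Modules.pullback π).map (f l) ≫
          d.proj b.1 ≫ (ψ b).inv) ≫ scal (Ls j) (c l) by
        simp only [Category.assoc, reassoc_of% (scal_nat (d.proj b.1) (c l)), scal_nat],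
        θ_comp, θ_scal, mul_comm]
      exact congrArg (χ (c l) * ·) (hτ (End.of (f l)) a b).symm
  have hspan1 : Submodule.span F (Set.range ρ) = ⊤ := by
    have := congrArg (Submodule.map (LinearMap.fst F (Matrix A A F) (Matrix B B F))) hΦ
    rw [Submodule.map_span, ← Set.range_comp, Submodule.map_top,
      LinearMap.range_eq_top.mpr LinearMap.fst_surjective] at this
    exact this
  have hspan2 : Submodule.span F (Set.range τ) = ⊤ := by
    have := congrArg (Submodule.map (LinearMap.snd F (Matrix A A F) (Matrix B B F))) hΦ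
    rw [Submodule.map_span, ← Set.range_comp, Submodule.map_top,
      LinearMap.range_eq_top.mpr LinearMap.snd_surjective] at this
    exact this
  have hunit : ∀ x, Φ x ≠ 0 → IsUnit x := fun x hx => by
    by_contra hu
    have hnil : ∀ y, IsNilpotent (x * y) := fun y => by
      rcases isUnit_or_isNilpotent (fun e he => hE.idem (End.asHom e) he) (x * y) with h | h
      · refine absurd ?_ hu
        rcases isUnit_or_isNilpotent (fun e he => hE.idem (End.asHom e) he) x with h' | ⟨m, hm⟩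
        · exact h'
        · obtain ⟨z, hz⟩ := h
          let w := y * ↑z⁻¹
          have hw : x * w = 1 := by rw [← mul_assoc, ← hz, Units.mul_inv]
          have hpow : ∀ l, x ^ l * w ^ l = 1 := fun l => by
            induction l with
            | zero => simp
            | succ l ih => rw [pow_succ, pow_succ', mul_assoc, ← mul_assoc x, hw, one_mul, ih]
          exact absurd (hpow m) (by rw [hm, zero_mul]; exact zero_ne_one)
      · exact h
    exact hx (Prod.ext (eq_zero_of_nilpotent_pairing ρ hspan1 hnil)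
      (eq_zero_of_nilpotent_pairing τ hspan2 hnil))
  obtain ⟨x, c, c', hx, hcc⟩ := exists_scalar_ne Φ hunit hΦ
  have hρx : ρ x = Matrix.scalar A c := congrArg Prod.fst hx
  have hτx : τ x = Matrix.scalar B c' := congrArg Prod.snd hx
  -- the residue is invariant
  obtain ⟨r, hr, hrc⟩ := eq_scal_choose χ (hLs i)
    ((φ ⟨i, ⟨Iso.refl _⟩⟩).hom ≫ d.inj i ≫ (Scheme.Modules.pullback π).map (End.asHom x) ≫
      d.proj i ≫ (φ ⟨i, ⟨Iso.refl _⟩⟩).inv)
  replace hrc : c = χ r := by
    refine Eq.trans ?_ hrc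
    refine Eq.trans ?_ (hρ x ⟨i, ⟨Iso.refl _⟩⟩ ⟨i, ⟨Iso.refl _⟩⟩)
    rw [hρx, Matrix.scalar_apply, Matrix.diagonal_apply_eq]
  have hfixr : ∀ σ, χ ((g σ).appTop r) = χ r := fun σ => by
    obtain ⟨e⟩ := hinv σ i
    let η := Scheme.Modules.pullbackComp (g σ) π ≪≫ Scheme.Modules.pullbackCongr (hg σ)
    let Q := Scheme.Modules.pullback (g σ)
    let u₀ := (φ ⟨i, ⟨Iso.refl _⟩⟩).hom ≫ d.inj i
    let v₀ := d.proj i ≫ (φ ⟨i, ⟨Iso.refl _⟩⟩).inv
    have huv : u₀ ≫ v₀ = 𝟙 _ := by simp [u₀, v₀, reassoc_of% (d.inj_proj i)]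
    have hnat : Q.map ((Scheme.Modules.pullback π).map (End.asHom x)) ≫ η.hom.app E =
        η.hom.app E ≫ (Scheme.Modules.pullback π).map (End.asHom x) := η.hom.naturality (End.asHom x)
    have hpair : (e.inv ≫ Q.map u₀ ≫ η.hom.app E) ≫ (η.inv.app E ≫ Q.map v₀ ≫ e.hom) = 𝟙 _ := by
      simp [← Functor.map_comp_assoc, huv]
    have key := θ_eq_of_scalar χ hχu d hLi (hLs i) (hLi i).1 φ
      ((Scheme.Modules.pullback π).map (End.asHom x)) c
      (fun a b => by rw [← hρ, hρx, Matrix.scalar_apply, Matrix.diagonal_apply]; congr 1; exact propext eq_comm)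
      (e.inv ≫ Q.map u₀ ≫ η.hom.app E) (η.inv.app E ≫ Q.map v₀ ≫ e.hom)
    rw [hpair, θ_id, mul_one] at key
    refine Eq.trans ?_ (key.trans hrc)
    rw [show (e.inv ≫ Q.map u₀ ≫ η.hom.app E) ≫ (Scheme.Modules.pullback π).map (End.asHom x) ≫
        η.inv.app E ≫ Q.map v₀ ≫ e.hom = scal (Ls i) ((g σ).appTop r) by
      simp only [Category.assoc]
      rw [← reassoc_of% hnat, Iso.hom_inv_id_app_assoc, ← Functor.map_comp_assoc,
        ← Functor.map_comp_assoc,
        show (u₀ ≫ (Scheme.Modules.pullback π).map (End.asHom x)) ≫ v₀ = scal (Ls i) r from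
          (by simp [u₀, v₀] : _ = _).trans hr,
        pull_scal, scal_nat, Iso.inv_hom_id_assoc], θ_scal]
  obtain ⟨m, s, hs⟩ := hfix r hfixr
  have hscal : ∀ (L : X'.Modules) (hL : PicF.IsInvertible L) (ι : Type) [Fintype ι] [DecidableEq ι]
      (ρ' : End E →+* Matrix ι ι F) (u : ι → (L ⟶ (Scheme.Modules.pullback π).obj E))
      (v : ι → ((Scheme.Modules.pullback π).obj E ⟶ L))
      (_ : ∀ a b, u a ≫ v b = if a = b then 𝟙 L else 0)
      (_ : ∀ f a b, ρ' f b a = θ χ hL (u a ≫ (Scheme.Modules.pullback π).map (End.asHom f) ≫ v b)),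
      ρ' (End.of (scal E s)) = Matrix.scalar ι (χ (π.appTop s)) := by
    intro L hL ι _ _ ρ' u v huv h
    ext b a
    rw [h, End.asHom, pull_scal, scal_nat, ← Category.assoc, huv, Matrix.scalar_apply,
      Matrix.diagonal_apply]
    by_cases hab : a = b
    · subst hab
      rw [if_pos rfl, if_pos rfl, Category.id_comp, θ_scal]
    · rw [if_neg hab, if_neg (Ne.symm hab), zero_comp, θ_zero]
  have h1 : ρ (End.of (scal E s)) = Matrix.scalar A (χ (π.appTop s)) :=
    hscal _ (hLs i) A ρ (fun a => (φ a).hom ≫ d.inj a.1) (fun b => d.proj b.1 ≫ (φ b).inv)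
      (fun a b => by
        split_ifs with h
        · subst h; simp [reassoc_of% (d.inj_proj a.1)]
        · simp [reassoc_of% (d.inj_proj_ne a.1 b.1 fun e => h (Subtype.ext e))])
      (fun f a b => by rw [hρ, Category.assoc])
  have h2 : τ (End.of (scal E s)) = Matrix.scalar B (χ (π.appTop s)) :=
    hscal _ (hLs j) B τ (fun a => (ψ a).hom ≫ d.inj a.1) (fun b => d.proj b.1 ≫ (ψ b).inv)
      (fun a b => by
        split_ifs with h
        · subst h; simp [reassoc_of% (d.inj_proj a.1)]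
        · simp [reassoc_of% (d.inj_proj_ne a.1 b.1 fun e => h (Subtype.ext e))])
      (fun f a b => by rw [hτ, Category.assoc])
  let y : End E := x ^ q ^ m - End.of (scal E s)
  have hy : ρ y = 0 := by
    rw [map_sub, map_pow, hρx, h1, ← map_pow, hrc, hs, sub_self]
  have hτy : τ y = 0 := by
    by_contra h
    exact ((hunit y fun h0 => h (congrArg Prod.snd h0)).map ρ).ne_zero hy
  rw [map_sub, map_pow, hτx, h2, ← map_pow, sub_eq_zero, Matrix.scalar_inj] at hτy
  refine hcc (iterateFrobenius_inj F q m ?_)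
  rw [iterateFrobenius_def, iterateFrobenius_def, hrc, hs, hτy]

end Groth.Agent.KSMod
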