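import Groth.Agent.CSA.Simple
import Mathlib.Algebra.Ring.Subring.Basic
import Mathlib.Data.Matrix.Basis
import Mathlib.LinearAlgebra.Matrix.Charpoly.Coeff

/-!
# A division algebra has one absolutely irreducible representation for each embedding of its centre
-/

set_option autoImplicit false
universe u v w

open scoped TensorProduct

namespace Groth.Agent.KSMod

/-- Two representations of a central division algebra cannot be jointly surjective after extending
scalars. -/
theorem not_span_pair {Z : Type u} {D : Type v} [Field Z] [DivisionRing D] [Algebra Z D]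
    [Algebra.IsCentral Z D] {F : Type u} [Field F] [Algebra Z F] {A : Type w} [Ring A] [Algebra F A]
    [Algebra Z A] [IsScalarTower Z F A] [Nontrivial A] {B : Type w} [Ring B] [Algebra F B]
    [Algebra Z B] [IsScalarTower Z F B] [Nontrivial B]
    (f : D →ₐ[Z] A) (g : D →ₐ[Z] B)
    (hspan : Submodule.span F (Set.range fun d => (f d, g d)) = ⊤) : False := by
  let Φ : F ⊗[Z] D →ₐ[F] A × B := Algebra.TensorProduct.lift (Algebra.ofId F (A × B)) (f.prod g)
    (fun x y => Algebra.commutes x _)
  have hsurj : ∀ y : A × B, ∃ x, Φ x = y := fun y => by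
    have hy : y ∈ Submodule.span F (Set.range fun d => (f d, g d)) := hspan ▸ Submodule.mem_top
    induction hy using Submodule.span_induction with
    | mem z hz =>
      obtain ⟨d, rfl⟩ := hz
      exact ⟨1 ⊗ₜ[Z] d, by simp [Φ]⟩
    | zero => exact ⟨0, map_zero Φ⟩
    | add a b _ _ ha hb =>
      obtain ⟨x, rfl⟩ := ha
      obtain ⟨x', rfl⟩ := hb
      exact ⟨x + x', map_add Φ x x'⟩
    | smul c a _ ha =>
      obtain ⟨x, rfl⟩ := ha
      exact ⟨c • x, map_smul Φ c x⟩
  haveI : IsSimpleRing (F ⊗[Z] D) := CSA.isSimpleRing_baseChange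
  have hinj := RingHom.injective ((RingHom.fst A B).comp Φ.toRingHom)
  obtain ⟨x, hx⟩ := hsurj (0, 1)
  have h0 : x = 0 := hinj (by simp [hx])
  rw [h0, map_zero] at hx
  exact zero_ne_one (congrArg Prod.snd hx)

variable {R : Type u} [Ring R] {F : Type u} [Field F] {ι κ : Type} [Fintype ι] [DecidableEq ι]
  [Fintype κ] [DecidableEq κ]

/-- If every nonzero image is a unit and the images span, then some element acts by two different
scalars. -/
theorem exists_scalar_ne [Nonempty ι] [Nonempty κ]
    (Φ : R →+* Matrix ι ι F × Matrix κ κ F) (hunit : ∀ x, Φ x ≠ 0 → IsUnit x)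
    (hspan : Submodule.span F (Set.range Φ) = ⊤) :
    ∃ (x : R) (c d : F), Φ x = (Matrix.scalar ι c, Matrix.scalar κ d) ∧ c ≠ d := by
  classical
  by_contra hne
  push Not at hne
  let D := Φ.range
  haveI : Nontrivial D := ⟨⟨0, 1, fun h => zero_ne_one (congrArg Subtype.val h)⟩⟩
  have hD : ∀ a : D, IsUnit a ∨ a = 0 := fun a => by
    obtain ⟨⟨_, ⟨x, rfl⟩⟩, rfl⟩ : ∃ b : D, b = a := ⟨a, rfl⟩
    by_cases h : Φ x = 0
    · exact Or.inr (Subtype.ext h)
    · exact Or.inl ((hunit x h).map Φ.rangeRestrict)
  letI : DivisionRing D := DivisionRing.ofIsUnitOrEqZero hD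
  let Z := Subring.center D
  letI : Algebra Z D := (Z.subtype).toAlgebra' fun z d => ((Subring.mem_center_iff.mp z.2) d).symm
  haveI : Algebra.IsCentral Z D :=
    ⟨fun d hd => ⟨⟨d, Subring.mem_center_iff.mpr (Subalgebra.mem_center_iff.mp hd)⟩, rfl⟩⟩
  have hscal : ∀ z : Z, ∃ c : F, (z : D).1 = (Matrix.scalar ι c, Matrix.scalar κ c) := by
    intro z
    have hcom : ∀ m : Matrix ι ι F × Matrix κ κ F, Commute (z : D).1 m := fun m => by
      have hm : m ∈ Submodule.span F (Set.range Φ) := hspan ▸ Submodule.mem_top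
      induction hm using Submodule.span_induction with
      | mem y hy =>
        obtain ⟨x, rfl⟩ := hy
        exact (congrArg Subtype.val ((Subring.mem_center_iff.mp z.2) ⟨Φ x, x, rfl⟩)).symm
      | zero => exact Commute.zero_right _
      | add a b _ _ ha hb => exact ha.add_right hb
      | smul c a _ ha => exact ha.smul_right c
    obtain ⟨c, hc⟩ : (z : D).1.1 ∈ Set.range (Matrix.scalar ι) :=
      Matrix.mem_range_scalar_of_commute_single fun i j _ =>
        (congrArg Prod.fst (hcom (Matrix.single i j 1, 0))).symm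
    obtain ⟨d, hd⟩ : (z : D).1.2 ∈ Set.range (Matrix.scalar κ) :=
      Matrix.mem_range_scalar_of_commute_single fun i j _ =>
        (congrArg Prod.snd (hcom (0, Matrix.single i j 1))).symm
    obtain ⟨x, hx⟩ := (z : D).2
    obtain rfl : c = d := hne x c d (hx.trans (Prod.ext hc.symm hd.symm))
    exact ⟨c, Prod.ext hc.symm hd.symm⟩
  choose χ hχ using hscal
  have hinj : ∀ {c c' : F}, Matrix.scalar ι c = Matrix.scalar ι c' → c = c' := fun h =>
    Matrix.scalar_inj.mp h
  let χ' : Z →+* F :=
    { toFun := χ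
      map_one' := hinj (by rw [map_one]; exact (congrArg Prod.fst (hχ 1)).symm)
      map_mul' := fun a b => hinj (by
        rw [map_mul]
        refine (congrArg Prod.fst (hχ (a * b))).symm.trans ?_
        exact congrArg₂ (· * ·) (congrArg Prod.fst (hχ a)) (congrArg Prod.fst (hχ b)))
      map_zero' := hinj (by rw [map_zero]; exact (congrArg Prod.fst (hχ 0)).symm)
      map_add' := fun a b => hinj (by
        rw [map_add]
        refine (congrArg Prod.fst (hχ (a + b))).symm.trans ?_
        exact congrArg₂ (· + ·) (congrArg Prod.fst (hχ a)) (congrArg Prod.fst (hχ b))) }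
  letI : Algebra Z F := χ'.toAlgebra
  let f : D →ₐ[Z] Matrix ι ι F :=
    { (RingHom.fst _ _).comp D.subtype with commutes' := fun z => congrArg Prod.fst (hχ z) }
  let g : D →ₐ[Z] Matrix κ κ F :=
    { (RingHom.snd _ _).comp D.subtype with commutes' := fun z => congrArg Prod.snd (hχ z) }
  refine not_span_pair f g (eq_top_iff.mpr (hspan.ge.trans (Submodule.span_mono ?_)))
  rintro _ ⟨x, rfl⟩
  exact ⟨⟨Φ x, x, rfl⟩, rfl⟩

/-- A matrix pairing to nilpotents with a spanning family is zero. -/
theorem eq_zero_of_nilpotent_pairing (ρ : R →+* Matrix ι ι F)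
    (hspan : Submodule.span F (Set.range ρ) = ⊤) {x : R} (hx : ∀ y, IsNilpotent (x * y)) : ρ x = 0 := by
  have key : ∀ M : Matrix ι ι F, (ρ x * M).trace = 0 := fun M => by
    have hM : M ∈ Submodule.span F (Set.range ρ) := hspan ▸ Submodule.mem_top
    induction hM using Submodule.span_induction with
    | mem y hy =>
      obtain ⟨y, rfl⟩ := hy
      rw [← map_mul]
      exact (Matrix.isNilpotent_trace_of_isNilpotent ((hx y).map ρ)).eq_zero
    | zero => rw [mul_zero, Matrix.trace_zero]
    | add a b _ _ ha hb => rw [mul_add, Matrix.trace_add, ha, hb, add_zero]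
    | smul c a _ ha => rw [Matrix.mul_smul, Matrix.trace_smul, ha, smul_zero]
  ext i j
  simpa [Matrix.trace_mul_single] using key (Matrix.single j i 1)

end Groth.Agent.KSMod
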