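import Groth.Agent.KSMod.GalCore
import Mathlib.FieldTheory.PurelyInseparable.Basic
import Mathlib.RingTheory.LocalRing.ResidueField.Basic

/-!
# Isotypy for Galois invariant splittings over separably closed fields
-/

set_option autoImplicit false
universe u

open CategoryTheory CategoryTheory.Limits AlgebraicGeometry
open W4c1astiltbs12
open scoped Classical

noncomputable section

namespace Groth.Agent.KSMod

/-- Functoriality of the constants. -/
theorem toGlobal_comp {A B : Type u} [CommRing A] [CommRing B] {X Y : Scheme.{u}}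
    (f : X ⟶ Spec (CommRingCat.of A)) (g : Y ⟶ Spec (CommRingCat.of B)) (h : Y ⟶ X) (φ : A →+* B)
    (w : h ≫ f = g ≫ Spec.map (CommRingCat.ofHom φ)) (a : A) :
    h.appTop (Coh.toGlobal f a) = Coh.toGlobal g (φ a) := by
  have e1 : (Scheme.ΓSpecIso (CommRingCat.of A)).inv ≫ (h ≫ f).appTop =
      CommRingCat.ofHom φ ≫ (Scheme.ΓSpecIso (CommRingCat.of B)).inv ≫ g.appTop := by
    rw [w, Scheme.Hom.comp_appTop]
    exact (Scheme.ΓSpecIso_inv_naturality_assoc (CommRingCat.ofHom φ) g.appTop).symm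
  rw [Scheme.Hom.comp_appTop] at e1
  exact ConcreteCategory.congr_hom e1 a

variable {k : Type u} [Field k] {X : Scheme.{u}} (p : X ⟶ Spec (CommRingCat.of k))
  (K : Type u) [Field K] [Algebra k K]

theorem galAct_proj (σ : K ≃ₐ[k] K) : galAct p K σ ≫ proj p K = proj p K :=
  (pullback.lift_fst _ _ _).trans (Category.comp_id _)

theorem galAct_bcTo (σ : K ≃ₐ[k] K) :
    galAct p K σ ≫ W4bk4gw11416.baseChangeTo p K =
      W4bk4gw11416.baseChangeTo p K ≫ Spec.map (CommRingCat.ofHom (σ : K →+* K)) :=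
  pullback.lift_snd _ _ _

variable [IsProper p]

/-- An indecomposable module splitting into Galois invariant invertible modules has one type. -/
theorem nonempty_iso_of_galois [IsSepClosed K] [ConnectedSpace ↥(W4bk4gw11416.baseChange p K)]
    (q : ℕ) [ExpChar k q]
    (hK : ∀ c : K, (∀ σ : K ≃ₐ[k] K, σ c = c) → ∃ (m : ℕ) (a : k), algebraMap k K a = c ^ q ^ m)
    {E : X.Modules} (hE : Coh.IsCoh E) (hEi : Indec E) {n : ℕ}
    {Ls : Fin n → (W4bk4gw11416.baseChange p K).Modules} (hLs : ∀ i, PicF.IsInvertible (Ls i))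
    (hinv : ∀ (σ : K ≃ₐ[k] K) (i : Fin n),
      Nonempty ((Scheme.Modules.pullback (galAct p K σ)).obj (Ls i) ≅ Ls i))
    (d : Dec (bcMod p K E) Ls) (i j : Fin n) : Nonempty (Ls i ≅ Ls j) := by
  let Y := W4bk4gw11416.baseChange p K
  let t : Y ⟶ Spec (CommRingCat.of K) := W4bk4gw11416.baseChangeTo p K
  let tK : K →+* Γ(Y, ⊤) := Coh.toGlobal t
  letI : Algebra K Γ(Y, ⊤) := tK.toAlgebra
  letI : Y.Over (Spec (CommRingCat.of K)) := ⟨t⟩
  haveI : IsProper (Y ↘ Spec (CommRingCat.of K)) := inferInstanceAs (IsProper (pullback.snd p _))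
  have hO := PicLoc.isInvertible_structureModule Y
  haveI : Module.Finite K Γ(Y, ⊤) := by
    have := finite_top K (Coh.structureModule Y)
      (VBLib.isCoh_of_ofRank (ProjTwist.isFinLocFreeOfRank_one hO))
    exact this
  haveI : Nontrivial Γ(Y, ⊤) := ⟨⟨0, 1, fun h => (indec_of_isInvertible hO).1
    ((IsZero.iff_id_eq_zero _).mpr (by rw [← scal_one, ← h, scal_zero]))⟩⟩
  haveI : IsArtinianRing Γ(Y, ⊤) := IsArtinianRing.of_finite K Γ(Y, ⊤)
  have hidem : ∀ e : Γ(Y, ⊤), IsIdempotentElem e → e = 0 ∨ e = 1 := fun e he => by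
    rcases (indec_of_isInvertible hO).idem (scal _ e) (by rw [scal_comp, he.eq]) with h | h
    · exact Or.inl (scal_injective hO (by rw [h, scal_zero]))
    · exact Or.inr (scal_injective hO (by rw [h, scal_one]))
  haveI : IsLocalRing Γ(Y, ⊤) := IsLocalRing.of_isUnit_or_isUnit_one_sub_self fun f => by
    rcases isUnit_or_isNilpotent hidem f with h | h
    · exact Or.inl h
    · exact Or.inr h.isUnit_one_sub
  let F := IsLocalRing.ResidueField Γ(Y, ⊤)
  let χ : Γ(Y, ⊤) →+* F := IsLocalRing.residue _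
  have hχu : ∀ r, χ r ≠ 0 → IsUnit r := fun r hr => by
    by_contra h
    exact hr ((IsLocalRing.residue_eq_zero_iff r).mpr ((IsLocalRing.mem_maximalIdeal r).mpr h))
  haveI : Module.Finite K F :=
    Module.Finite.of_surjective (Algebra.linearMap Γ(Y, ⊤) F |>.restrictScalars K) Ideal.Quotient.mk_surjective
  haveI : Algebra.IsAlgebraic K F := Algebra.IsAlgebraic.of_finite K F
  haveI : IsPurelyInseparable K F := inferInstance
  haveI : ExpChar K q := expChar_of_injective_ringHom (algebraMap k K).injective q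
  haveI : ExpChar F q := expChar_of_injective_ringHom (algebraMap K F).injective q
  haveI := hE.1
  haveI := hE.2
  haveI := compactSpace p
  haveI := isArtinian p E hE
  refine nonempty_iso_of_invariant (proj p K) χ Ideal.Quotient.mk_surjective hχu (galAct p K)
    (galAct_proj p K) q ?_ E hEi ?_ Ls hLs (fun l => indec_of_isInvertible (hLs l)) hinv d i j
  · intro r hr
    obtain ⟨m, c, hc⟩ := IsPurelyInseparable.pow_mem K q (χ r)
    change χ (tK c) = χ r ^ q ^ m at hc
    have hσ : ∀ σ : K ≃ₐ[k] K, σ c = c := fun σ => by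
      have hn : IsNilpotent (r ^ q ^ m - tK c) := by
        refine (isUnit_or_isNilpotent hidem _).resolve_left fun h => (h.map χ).ne_zero ?_
        rw [map_sub, map_pow, hc, sub_self]
      have h0 : χ ((galAct p K σ).appTop (r ^ q ^ m - tK c)) = 0 :=
        (hn.map ((galAct p K σ).appTop.hom)).map χ |>.eq_zero
      rw [map_sub, map_sub, map_pow, map_pow, hr σ, ← hc,
        show (galAct p K σ).appTop (tK c) = tK (σ c) from
          toGlobal_comp t t (galAct p K σ) (σ : K →+* K) (galAct_bcTo p K σ) c, sub_eq_zero] at h0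
      exact ((χ.comp tK).injective h0).symm
    obtain ⟨m', a, ha⟩ := hK c hσ
    refine ⟨m + m', Coh.toGlobal p a, ?_⟩
    rw [show (proj p K).appTop (Coh.toGlobal p a) = tK (algebraMap k K a) from
        toGlobal_comp p t (proj p K) (algebraMap k K) pullback.condition a, ha, pow_add, pow_mul, ← hc,
      map_pow, map_pow]
  · intro ψ
    letI := baseAlg (Spec.map (CommRingCat.ofHom (algebraMap k K)))
    letI : Field Γ(Spec (CommRingCat.of k), ⊤) := (isField_Γ k).toField
    let bas := Module.Free.chooseBasis Γ(Spec (CommRingCat.of k), ⊤) Γ(Spec (CommRingCat.of K), ⊤)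
    obtain ⟨s, φ, hφ⟩ := exists_sum (sq p K) E E bas ψ
    exact ⟨_, s, φ, _, hφ⟩

/-- An indecomposable module splitting into Galois invariant invertible modules is isotypical. -/
theorem exists_isotypical [IsSepClosed K] [ConnectedSpace ↥(W4bk4gw11416.baseChange p K)]
    (q : ℕ) [ExpChar k q]
    (hK : ∀ c : K, (∀ σ : K ≃ₐ[k] K, σ c = c) → ∃ (m : ℕ) (a : k), algebraMap k K a = c ^ q ^ m)
    {E : X.Modules} (hE : Coh.IsCoh E) (hEi : Indec E) {n : ℕ}
    {Ls : Fin n → (W4bk4gw11416.baseChange p K).Modules} (hLs : ∀ i, PicF.IsInvertible (Ls i))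
    (hinv : ∀ (σ : K ≃ₐ[k] K) (i : Fin n),
      Nonempty ((Scheme.Modules.pullback (galAct p K σ)).obj (Ls i) ≅ Ls i))
    (e : Nonempty (bcMod p K E ≅ ∐ Ls)) :
    ∃ i : Fin n, 0 < n ∧ Nonempty (Dec (bcMod p K E) (fun _ : Fin n => Ls i)) := by
  haveI : HasFiniteBiproducts (W4bk4gw11416.baseChange p K).Modules := Abelian.hasFiniteBiproducts
  obtain ⟨e⟩ := e
  let d := Dec.ofIso (e ≪≫ (biproduct.isoCoproduct Ls).symm)
  have hn := pos_of_dec d (not_isZero_bcMod p K hE hEi.1)
  exact ⟨⟨0, hn⟩, hn, ⟨d.congr (Iso.refl _) fun l =>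
    (nonempty_iso_of_galois p K q hK hE hEi hLs hinv d l ⟨0, hn⟩).some⟩⟩

end Groth.Agent.KSMod
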