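import Groth.Agent.KSMod.EndFinite
import Groth.Agent.LFDesc.BaseChange
import Groth.Agent.HilbLoc.ModHom

/-!
# Morphisms of pullbacks along a base change of affine bases

For a cartesian square `X' = X ×_S S'` with `S`, `S'` affine and `Γ(S')` free over `Γ(S)`, morphisms
`p^* M ⟶ p^* N` (with `M` quasi-coherent of finite type, `N` quasi-coherent) are the
`Γ(S')`-combinations of pullbacks of morphisms `M ⟶ N`.
-/

set_option autoImplicit false
universe u

open CategoryTheory CategoryTheory.Limits AlgebraicGeometry Opposite TopologicalSpace TensorProduct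

noncomputable section

namespace Groth.Agent.KSMod

open Groth.Agent.QCoh

/-- Coordinates in a tensor product commute with maps of the right factor. -/
theorem equivFinsupp_lTensor {R B M N : Type*} [CommRing R] [AddCommGroup B] [Module R B]
    [AddCommGroup M] [Module R M] [AddCommGroup N] [Module R N] {ι : Type*} [DecidableEq ι]
    (b : Module.Basis ι R B) (L : M →ₗ[R] N) (z : B ⊗[R] M) (j : ι) :
    TensorProduct.equivFinsuppOfBasisLeft b (LinearMap.lTensor B L z) j =
      L (TensorProduct.equivFinsuppOfBasisLeft b z j) := by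
  induction z with
  | zero => simp
  | tmul c m => simp [TensorProduct.equivFinsuppOfBasisLeft_apply_tmul_apply]
  | add x y hx hy => simp [map_add, hx, hy]

/-- An element with finitely supported coordinates. -/
theorem eq_sum_basis {R B M : Type*} [CommRing R] [AddCommGroup B] [Module R B] [AddCommGroup M]
    [Module R M] {ι : Type*} [DecidableEq ι] (b : Module.Basis ι R B) (z : B ⊗[R] M) (s : Finset ι)
    (v : ι → M) (h1 : ∀ j ∈ s, TensorProduct.equivFinsuppOfBasisLeft b z j = v j)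
    (h0 : ∀ j ∉ s, TensorProduct.equivFinsuppOfBasisLeft b z j = 0) :
    z = ∑ j ∈ s, b j ⊗ₜ[R] v j := by
  apply (TensorProduct.equivFinsuppOfBasisLeft b).injective
  ext j
  simp only [map_sum, Finsupp.coe_finset_sum, Finset.sum_apply,
    TensorProduct.equivFinsuppOfBasisLeft_apply_tmul_apply, Module.Basis.repr_self]
  by_cases hj : j ∈ s
  · rw [Finset.sum_eq_single j (fun i _ hi => by simp [Finsupp.single_eq_of_ne hi.symm])
      (fun h => absurd hj h), Finsupp.single_eq_same, one_smul]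
    exact h1 j hj
  · rw [h0 j hj]
    symm
    exact Finset.sum_eq_zero fun i hi => by
      rw [Finsupp.single_eq_of_ne (fun h : j = i => hj (h ▸ hi)), zero_smul]

variable {X S S' X' : Scheme.{u}} {f : X ⟶ S} {g : S' ⟶ S} {p : X' ⟶ X} {q : X' ⟶ S'}

theorem topLe (f : X ⟶ S) (U : X.Opens) : U ≤ f ⁻¹ᵁ ⊤ := fun _ _ => trivial

theorem sum_app {Y : Scheme.{u}} {A B : Y.Modules} {J : Type*} (s : Finset J) (F : J → (A ⟶ B))
    (O : Y.Opens) (a : Γ(A, O)) : (∑ i ∈ s, F i).app O a = ∑ i ∈ s, (F i).app O a := by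
  classical
  induction s using Finset.induction with
  | empty => rfl
  | insert i t hi ih => rw [Finset.sum_insert hi, Finset.sum_insert hi, ← ih]; rfl

/-- Multiplication by a function of the base. -/
abbrev Tm (q : X' ⟶ S') (P : X'.Modules) (c : Γ(S', ⊤)) : P ⟶ P := scal P (q.appTop c)

/-- The open of `X'` over an open of `X`. -/
abbrev ov (p : X' ⟶ X) (q : X' ⟶ S') (U : X.Opens) : X'.Opens := LFDesc.over p q (⊤ : S'.Opens) U

/-- Pulled back sections. -/
abbrev us (p : X' ⟶ X) (q : X' ⟶ S') (M : X.Modules) {U : X.Opens} (m : Γ(M, U)) :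
    Γ((Scheme.Modules.pullback p).obj M, ov p q U) :=
  LimTop.unitSec p M inf_le_left m

omit f g in
/-- Morphisms out of a pullback are determined on pulled back sections over affines. -/
theorem pullback_hom_ext (q : X' ⟶ S') {M : X.Modules} {P : X'.Modules}
    (ψ ψ' : (Scheme.Modules.pullback p).obj M ⟶ P)
    (h : ∀ U : X.affineOpens, ∀ m : Γ(M, U.1),
      ψ.app (ov p q U.1) (us p q M m) = ψ'.app (ov p q U.1) (us p q M m)) : ψ = ψ' := by
  apply ((Scheme.Modules.pullbackPushforwardAdjunction p).homEquiv _ _).injective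
  refine Scheme.Modules.hom_ext _ _ fun V => ?_
  ext m
  change (ψ.app (p ⁻¹ᵁ V)) (((Scheme.Modules.pullbackPushforwardAdjunction p).unit.app M).app V m) =
    (ψ'.app (p ⁻¹ᵁ V)) (((Scheme.Modules.pullbackPushforwardAdjunction p).unit.app M).app V m)
  refine eq_of_locally_eq P
    (fun W : {W : X.affineOpens // W.1 ≤ V} =>
      (inf_le_left.trans (p.preimage_mono W.2) : ov p q W.1.1 ≤ p ⁻¹ᵁ V)) ?_ _ _ fun W => ?_
  · intro x hx
    obtain ⟨W, hW⟩ := Opens.mem_iSup.mp (CohAff.le_iSup_affine_le V (hx : p x ∈ V))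
    exact Opens.mem_iSup.mpr ⟨W, hW, trivial⟩
  · have e : res ((Scheme.Modules.pullback p).obj M)
        (inf_le_left.trans (p.preimage_mono W.2) : ov p q W.1.1 ≤ p ⁻¹ᵁ V)
        (((Scheme.Modules.pullbackPushforwardAdjunction p).unit.app M).app V m) =
        us p q M (res M W.2 m) := by
      rw [us, LimTop.unitSec_res]
      rfl
    refine (app_res ψ _ _).symm.trans (Eq.trans ?_ (app_res ψ' _ _))
    exact ((congrArg _ e).trans (h W.1 _)).trans (congrArg _ e).symm

omit f g in
/-- A morphism out of a quasi-coherent module vanishing on sections over an affine covering is zero. -/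
theorem eq_zero_of_cover {M N : X.Modules} [M.IsQuasicoherent] (φ : M ⟶ N) {ι : Type*}
    (U : ι → X.affineOpens) (hU : ∀ x : X, ∃ i, x ∈ (U i).1) (h : ∀ i m, φ.app (U i).1 m = 0) :
    φ = 0 := by
  apply ofHom_top_injective M N
  refine Subtype.ext (funext fun y => ?_)
  obtain ⟨i, hi⟩ := hU y.1
  refine HomShQC.stalkHom_ext M N (U i).2 hi fun m => ?_
  change RefHull.stalkMapₗ φ y.1 (M.presheaf.germ _ _ hi m) =
    RefHull.stalkMapₗ (0 : M ⟶ N) y.1 (M.presheaf.germ _ _ hi m)
  rw [RefHull.stalkMapₗ_germ, RefHull.stalkMapₗ_germ, h i m]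
  rfl

variable [IsAffine S] [IsAffine S'] (H : IsPullback p q f g)

/-- The algebra of functions on the bases. -/
abbrev baseAlg (g : S' ⟶ S) : Algebra Γ(S, ⊤) Γ(S', ⊤) := (g.appLE ⊤ ⊤ le_top).hom.toAlgebra

variable (M N : X.Modules) [M.IsQuasicoherent] [N.IsQuasicoherent]

/-- Sections over the base change of an affine open. -/
def secBC (U : X.affineOpens) :
    letI := baseAlg g
    Γ(S', ⊤) ⊗[Γ(S, ⊤)] LFDesc.Sec f N (US := ⊤) (topLe f U.1) ≃+
      Γ((Scheme.Modules.pullback p).obj N, ov p q U.1) :=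
  letI := baseAlg g
  AddEquiv.ofBijective (LFDesc.Φ f g p q N (le_top : ⊤ ≤ g ⁻¹ᵁ ⊤) H.w
      (topLe f U.1))
    (LFDesc.Φ_bijective_of_isAffineOpen f g p q N _ H (isAffineOpen_top S) (isAffineOpen_top S')
      _ U.2)

omit [M.IsQuasicoherent] in
theorem term_app (φ : M ⟶ N) (c : Γ(S', ⊤)) (U : X.affineOpens) (m : Γ(M, U.1)) :
    letI := baseAlg g
    ((Scheme.Modules.pullback p).map φ ≫ Tm q _ c).app (ov p q U.1) (us p q M m) =
      secBC H N U (c ⊗ₜ[Γ(S, ⊤)]
        (show LFDesc.Sec f N (US := ⊤) (topLe f U.1) from φ.app U.1 m)) := by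
  letI := baseAlg g
  change (Tm q _ c).app (ov p q U.1) (((Scheme.Modules.pullback p).map φ).app _ (us p q M m)) = _
  rw [us, LimTop.unitSec_map]
  refine Eq.trans (scal_app _ _ _ _) ?_
  refine Eq.trans ?_ (LFDesc.Φ_tmul f g p q N (le_top : ⊤ ≤ g ⁻¹ᵁ ⊤) H.w
      (topLe f U.1) c (show LFDesc.Sec f N _ from φ.app U.1 m)).symm
  rfl

omit [M.IsQuasicoherent] in
include H in
/-- A vanishing combination has vanishing coefficients in every linear coordinate. -/
theorem coeff_eq_zero {J : Type*} (s : Finset J) (c : J → Γ(S', ⊤)) (φ : J → (M ⟶ N))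
    (h : ∑ i ∈ s, (Scheme.Modules.pullback p).map (φ i) ≫ Tm q _ (c i) = 0) :
    letI := baseAlg g
    ∀ l : Γ(S', ⊤) →ₗ[Γ(S, ⊤)] Γ(S, ⊤), ∑ i ∈ s, φ i ≫ scal N (f.appTop (l (c i))) = 0 := by
  letI := baseAlg g
  intro l
  refine Scheme.Modules.hom_ext _ _ fun V => ?_
  ext m
  change (∑ i ∈ s, φ i ≫ scal N (f.appTop (l (c i)))).app V m = (0 : Γ(N, V))
  refine eq_zero_of_locally_eq_zero N (fun W : {W : X.affineOpens // W.1 ≤ V} => W.2)
    (CohAff.le_iSup_affine_le V) _ fun W => ?_
  rw [← app_res]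
  set m' := res M W.2 m
  rw [sum_app]
  have h1 : (secBC H N W.1) (∑ i ∈ s, c i ⊗ₜ[Γ(S, ⊤)]
      (show LFDesc.Sec f N (US := ⊤) (topLe f W.1.1) from (φ i).app W.1.1 m')) = 0 := by
    rw [map_sum]
    refine Eq.trans (Finset.sum_congr rfl fun i _ => (term_app H M N (φ i) (c i) W.1 m').symm) ?_
    rw [← sum_app, h]
    rfl
  rw [EmbeddingLike.map_eq_zero_iff] at h1
  have h2 := congrArg (fun z => TensorProduct.lid Γ(S, ⊤) _ (LinearMap.rTensor _ l z)) h1
  simp only [map_sum, map_zero, LinearMap.rTensor_tmul, TensorProduct.lid_tmul] at h2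
  refine Eq.trans (Finset.sum_congr rfl fun i _ => ?_) h2
  refine (scal_app N _ _ _).trans ?_
  rfl

omit [N.IsQuasicoherent] in
theorem finite_sections [CompactSpace X] [SheafOfModules.IsFiniteType.{u} M] :
    ∃ (T : Finset X.affineOpens), (∀ x : X, ∃ U ∈ T, x ∈ U.1) ∧
      ∀ U ∈ T, Module.Finite Γ(X, U.1) Γ(M, U.1) := by
  obtain ⟨T, hT⟩ := isCompact_univ.elim_finite_subcover (fun U : X.affineOpens => (U.1 : Set X))
    (fun U => U.1.isOpen) fun x _ => by
      obtain ⟨W, hW⟩ := Opens.mem_iSup.mp (CohAff.le_iSup_affine_le (⊤ : X.Opens) (trivial : x ∈ ⊤))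
      exact Set.mem_iUnion.mpr ⟨W.1, hW⟩
  refine ⟨T, fun x => ?_, fun U _ => finite_sections_of_isFiniteType M U.2⟩
  obtain ⟨U, hU, hx⟩ := Set.mem_iUnion₂.mp (hT (Set.mem_univ x))
  exact ⟨U, hU, hx⟩

include H in
/-- Every morphism of pullbacks is a combination of pullbacks. -/
theorem exists_sum [CompactSpace X] [SheafOfModules.IsFiniteType.{u} M] {ι : Type*}
    (b : letI := baseAlg g; Module.Basis ι Γ(S, ⊤) Γ(S', ⊤))
    (ψ : (Scheme.Modules.pullback p).obj M ⟶ (Scheme.Modules.pullback p).obj N) :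
    ∃ (s : Finset ι) (φ : ι → (M ⟶ N)),
      ψ = ∑ j ∈ s, (Scheme.Modules.pullback p).map (φ j) ≫
        Tm q _ (letI := baseAlg g; b j) := by
  classical
  letI := baseAlg g
  let SN := fun U : X.affineOpens => LFDesc.Sec f N (US := ⊤) (topLe f U.1)
  let E := fun (U : X.affineOpens) (z : Γ(S', ⊤) ⊗[Γ(S, ⊤)] SN U) =>
    TensorProduct.equivFinsuppOfBasisLeft b z
  let co : ∀ (U : X.affineOpens) (m : Γ(M, U.1)), Γ(S', ⊤) ⊗[Γ(S, ⊤)] SN U := fun U m =>
    (secBC H N U).symm (ψ.app (ov p q U.1) (us p q M m))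
  have hco : ∀ U m, secBC H N U (co U m) = ψ.app (ov p q U.1) (us p q M m) := fun U m =>
    AddEquiv.apply_symm_apply _ _
  have hadd : ∀ U m m', co U (m + m') = co U m + co U m' := fun U m m' => by
    apply (secBC H N U).injective
    rw [map_add, hco, hco, hco]
    exact (congrArg _ (map_add (LimTop.unitSec p M (inf_le_left : ov p q U.1 ≤ p ⁻¹ᵁ U.1)) m m')).trans
      (map_add (ψ.app (ov p q U.1)).hom _ _)
  -- linearity
  let mulA : ∀ (U : X.affineOpens) (a : Γ(X, U.1)), SN U →ₗ[Γ(S, ⊤)] SN U := fun U a =>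
    { toFun := fun n => (a • (show Γ(N, U.1) from n) : Γ(N, U.1))
      map_add' := fun n n' => smul_add a (show Γ(N, U.1) from n) n'
      map_smul' := fun r n => smul_comm a (f.appLE ⊤ U.1 le_top r) (show Γ(N, U.1) from n) }
  have hmul : ∀ U a z, secBC H N U (LinearMap.lTensor _ (mulA U a) z) =
      p.appLE U.1 (ov p q U.1) inf_le_left a • secBC H N U z := by
    intro U a z
    induction z with
    | zero => rw [map_zero, map_zero, smul_zero]
    | add x y hx hy => rw [map_add, map_add, map_add, hx, hy, smul_add]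
    | tmul c n =>
      rw [LinearMap.lTensor_tmul]
      refine (LFDesc.Φ_tmul f g p q N (le_top : ⊤ ≤ g ⁻¹ᵁ ⊤) H.w _ _ _).trans ?_
      refine Eq.trans ?_ (congrArg (p.appLE U.1 (ov p q U.1) inf_le_left a • ·)
        (LFDesc.Φ_tmul f g p q N (le_top : ⊤ ≤ g ⁻¹ᵁ ⊤) H.w
          (topLe f U.1) c n).symm)
      change q.appLE ⊤ (ov p q U.1) inf_le_right c •
          LimTop.unitSec p N inf_le_left (a • (show Γ(N, U.1) from n)) = _
      rw [LimTop.unitSec_smul, smul_comm]
  have hsmul : ∀ U a m, co U (a • m) = LinearMap.lTensor _ (mulA U a) (co U m) := by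
    intro U a m
    apply (secBC H N U).injective
    rw [hco, hmul, hco, us, LimTop.unitSec_smul, Scheme.Modules.Hom.app_smul]
  -- naturality
  have hnat : ∀ (U U' : X.affineOpens) (h : U'.1 ≤ U.1) m, co U' (res M h m) =
      LinearMap.lTensor _ (LFDesc.secRes f N (US := ⊤) (topLe f U.1)
        (topLe f U'.1) h) (co U m) := by
    intro U U' h m
    apply (secBC H N U').injective
    rw [hco]
    refine Eq.trans ?_ (LFDesc.res_Φ f g p q N (le_top : ⊤ ≤ g ⁻¹ᵁ ⊤) H.w
      (topLe f U.1) (topLe f U'.1) h (co U m))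
    rw [show LFDesc.Φ f g p q N (le_top : ⊤ ≤ g ⁻¹ᵁ ⊤) H.w (topLe f U.1) (co U m) =
      ψ.app (ov p q U.1) (us p q M m) from hco U m, ← app_res]
    congr 1
    rw [us, LimTop.unitSec_res, us, LimTop.res_unitSec]
  have hex : ∀ j, ∃ φ : M ⟶ N, ∀ (U : X.affineOpens) (m : Γ(M, U.1)),
      φ.app U.1 m = (E U (co U m) j : SN U) := fun j => by
    refine HilbLoc.exists_hom_of_affine
      (fun U => AddMonoidHom.mk' (fun m => ((E U (co U m) j : SN U) : Γ(N, U.1))) fun m m' => ?_)
      (fun U r m => ?_) (fun U U' h m => ?_)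
    · simp only [E, hadd, map_add, Finsupp.add_apply]
      rfl
    · exact (congrArg (fun z => E U z j) (hsmul U r m)).trans (equivFinsupp_lTensor b _ _ _)
    · exact ((congrArg (fun z => E U' z j) (hnat U U' h m)).trans
        (equivFinsupp_lTensor b _ _ _)).symm
  choose φ hφ using hex
  -- finitely many coordinates
  obtain ⟨T, hTc, hTf⟩ := finite_sections M
  have hgen : ∀ U : T, ∃ t : Finset Γ(M, U.1.1), Submodule.span Γ(X, U.1.1) (t : Set Γ(M, U.1.1)) = ⊤ :=
    fun U => Submodule.fg_def.mp (hTf U.1 U.2).fg_top |>.elim fun t ht => ⟨ht.1.toFinset, by simpa using ht.2⟩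
  choose t ht using hgen
  let s : Finset ι := Finset.univ.biUnion fun U : T => (t U).biUnion fun m => (E U.1 (co U.1 m)).support
  have hzero : ∀ j ∉ s, φ j = 0 := by
    intro j hj
    refine eq_zero_of_cover (φ j) (fun U : T => U.1)
      (fun x => let ⟨U, hU, hx⟩ := hTc x; ⟨⟨U, hU⟩, hx⟩) fun U m => ?_
    have hm : m ∈ Submodule.span Γ(X, U.1.1) (t U : Set _) := ht U ▸ Submodule.mem_top
    induction hm using Submodule.span_induction with
    | mem x hx =>
      rw [hφ]
      by_contra hne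
      exact hj (Finset.mem_biUnion.mpr ⟨U, Finset.mem_univ _,
        Finset.mem_biUnion.mpr ⟨x, hx, Finsupp.mem_support_iff.mpr hne⟩⟩)
    | zero => exact map_zero _
    | add x y _ _ hx hy => erw [map_add, hx, hy]; exact add_zero _
    | smul a x _ hx => rw [Scheme.Modules.Hom.app_smul, hx, smul_zero]
  refine ⟨s, φ, pullback_hom_ext q _ _ fun U m => ?_⟩
  rw [sum_app, ← hco U m]
  refine Eq.trans ?_ (Finset.sum_congr rfl fun j _ => (term_app H M N (φ j) (b j) U m).symm)
  rw [← map_sum]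
  exact congrArg (secBC H N U) (eq_sum_basis b (co U m) s
    (fun j => (show SN U from (φ j).app U.1 m)) (fun j _ => (hφ j U m).symm)
    (fun j hj => (hφ j U m).symm.trans (by rw [hzero j hj]; rfl)))

end Groth.Agent.KSMod
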