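import Groth.Agent.KSMod.Scalar
import Groth.Agent.KFlat.TensorLocFree
import Mathlib.LinearAlgebra.Dimension.DivisionRing
import Mathlib.RingTheory.SimpleModule.Basic

/-!
# Multiplicities of isotypic modules of invertible type
-/

set_option autoImplicit false
universe u

open CategoryTheory CategoryTheory.Limits AlgebraicGeometry Opposite TopologicalSpace
open W4c1astiltbs12

noncomputable section

namespace Groth.Agent.KSMod

section General

variable {X S S' X' : Scheme.{u}} {f : X ⟶ S} {g : S' ⟶ S} {p : X' ⟶ X} {q : X' ⟶ S'}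

/-- The algebra of endomorphisms over the global functions of the base. -/
abbrev endAlg (f : X ⟶ S) (M : X.Modules) : Algebra Γ(S, ⊤) (End M) :=
  ((scalHom M).comp f.appTop.hom).toAlgebra' fun c x => scalHom_commutes M (f.appTop c) x

theorem endAlg_smul (f : X ⟶ S) (M : X.Modules) (c : Γ(S, ⊤)) (x : End M) :
    letI := endAlg f M
    c • x = End.of (End.asHom x ≫ scal M (f.appTop c)) := rfl

/-- The pullback of a scalar is a scalar. -/
theorem map_scal (w : p ≫ f = q ≫ g) (M : X.Modules) (a : Γ(S, ⊤)) :
    letI := baseAlg g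
    (Scheme.Modules.pullback p).map (scal M (f.appTop a)) =
      Tm q _ (algebraMap Γ(S, ⊤) Γ(S', ⊤) a) := by
  letI := baseAlg g
  refine pullback_hom_ext q _ _ fun U m => ?_
  rw [us, LimTop.unitSec_map, scal_app, LimTop.unitSec_smul, Tm, scal_app]
  congr 1
  have h1 : f.appTop ≫ X.presheaf.map (homOfLE le_top : U.1 ⟶ ⊤).op ≫
        p.appLE U.1 (ov p q U.1) inf_le_left = (p ≫ f).appLE ⊤ (ov p q U.1) (topLe _ _) := by
    rw [Scheme.Hom.map_appLE, Scheme.Hom.comp_appLE]
    rfl
  have h2 : (g.appLE ⊤ ⊤ le_top) ≫ q.appTop ≫ X'.presheaf.map (homOfLE le_top : ov p q U.1 ⟶ ⊤).op =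
      (q ≫ g).appLE ⊤ (ov p q U.1) (topLe _ _) := by
    simp [Scheme.Hom.appLE, Scheme.Hom.comp_app]
  have h3 : f.appTop ≫ X.presheaf.map (homOfLE le_top : U.1 ⟶ ⊤).op ≫
      p.appLE U.1 (ov p q U.1) inf_le_left =
      (g.appLE ⊤ ⊤ le_top) ≫ q.appTop ≫ X'.presheaf.map (homOfLE le_top : ov p q U.1 ⟶ ⊤).op := by
    rw [h1, h2]
    simp only [w]
  exact ConcreteCategory.congr_hom h3 a

variable [IsAffine S] [IsAffine S'] [CompactSpace X]

set_option maxHeartbeats 1000000 in
/-- Endomorphisms after a field extension have the same dimension. -/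
theorem finrank_end_bc (H : IsPullback p q f g) (hR : IsField Γ(S, ⊤)) (hR' : IsField Γ(S', ⊤))
    (M : X.Modules) [M.IsQuasicoherent] [SheafOfModules.IsFiniteType.{u} M] :
    letI := endAlg f M
    letI := endAlg q ((Scheme.Modules.pullback p).obj M)
    Module.finrank Γ(S', ⊤) (End ((Scheme.Modules.pullback p).obj M)) =
      Module.finrank Γ(S, ⊤) (End M) := by
  classical
  letI := baseAlg g
  letI := endAlg f M
  letI := endAlg q ((Scheme.Modules.pullback p).obj M)
  letI : Field Γ(S, ⊤) := hR.toField
  haveI : Nontrivial Γ(S', ⊤) := ⟨hR'.exists_pair_ne⟩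
  let v := Module.Free.chooseBasis Γ(S, ⊤) (End M)
  let w : Module.Free.ChooseBasisIndex Γ(S, ⊤) (End M) → End ((Scheme.Modules.pullback p).obj M) :=
    fun i => End.of ((Scheme.Modules.pullback p).map (End.asHom (v i)))
  have hli : LinearIndependent Γ(S', ⊤) w := by
    refine linearIndependent_iff'.mpr fun s c h i hi => ?_
    refine (Module.forall_dual_apply_eq_zero_iff Γ(S, ⊤) (c i)).mp fun l => ?_
    have h0 := coeff_eq_zero H M M s c (fun j => End.asHom (v j)) h l
    exact linearIndependent_iff'.mp v.linearIndependent s (fun j => l (c j)) h0 i hi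
  have hsp : ⊤ ≤ Submodule.span Γ(S', ⊤) (Set.range w) := by
    intro ψ _
    let bas := Module.Free.chooseBasis Γ(S, ⊤) Γ(S', ⊤)
    obtain ⟨s, φ, hφ⟩ := exists_sum H M M bas (End.asHom ψ)
    rw [show ψ = ∑ j ∈ s, bas j • End.of ((Scheme.Modules.pullback p).map (φ j)) from hφ]
    refine Submodule.sum_mem _ fun j _ => Submodule.smul_mem _ _ ?_
    suffices key : ∀ z ∈ Submodule.span Γ(S, ⊤) (Set.range v),
        End.of ((Scheme.Modules.pullback p).map (End.asHom z)) ∈ Submodule.span Γ(S', ⊤) (Set.range w) from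
      key _ (v.mem_span (End.of (φ j)))
    intro z hm
    induction hm using Submodule.span_induction with
    | mem x hx => obtain ⟨i, rfl⟩ := hx; exact Submodule.subset_span ⟨i, rfl⟩
    | zero =>
      rw [show (Scheme.Modules.pullback p).map (End.asHom (0 : End M)) = 0 from
        Functor.map_zero _ _ _]
      exact Submodule.zero_mem _
    | add x y _ _ hx hy =>
      rw [show (Scheme.Modules.pullback p).map (End.asHom (x + y)) =
        (Scheme.Modules.pullback p).map (End.asHom x) + (Scheme.Modules.pullback p).map (End.asHom y)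
        from Functor.map_add _]
      exact Submodule.add_mem _ hx hy
    | smul a x _ hx =>
      have e : End.of ((Scheme.Modules.pullback p).map (End.asHom (a • x))) =
          algebraMap Γ(S, ⊤) Γ(S', ⊤) a • End.of ((Scheme.Modules.pullback p).map (End.asHom x)) := by
        rw [endAlg_smul, endAlg_smul]
        change (Scheme.Modules.pullback p).map (End.asHom x ≫ scal M (f.appTop a)) = _
        rw [Functor.map_comp, map_scal H.w]
      rw [e]
      exact Submodule.smul_mem _ _ hx
  rw [Module.finrank_eq_nat_card_basis v, Module.finrank_eq_nat_card_basis (Module.Basis.mk hli hsp)]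

end General

section Dec

variable {Y S : Scheme.{u}} (q : Y ⟶ S)

/-- The endomorphisms of a power are matrices. -/
theorem finrank_end_dec (hR : IsField Γ(S, ⊤)) {M N : Y.Modules} {d : ℕ}
    (dM : Dec M (fun _ : Fin d => N))
    (hsc : ∀ g : N ⟶ N, ∃! c : Γ(S, ⊤), g = Tm q N c) :
    letI := endAlg q M
    Module.finrank Γ(S, ⊤) (End M) = d * d := by
  classical
  letI := endAlg q M
  letI : Field Γ(S, ⊤) := hR.toField
  choose cf hcf huniq using hsc
  let E : (Fin d → Fin d → Γ(S, ⊤)) →ₗ[Γ(S, ⊤)] End M :=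
    { toFun := fun c => End.of (∑ a, ∑ b, dM.proj a ≫ Tm q N (c a b) ≫ dM.inj b)
      map_add' := fun c c' => by
        refine Eq.trans ?_ (Finset.sum_add_distrib (M := M ⟶ M))
        refine Finset.sum_congr rfl fun a _ => Eq.trans ?_ Finset.sum_add_distrib
        refine Finset.sum_congr rfl fun b _ => ?_
        simp only [Pi.add_apply, Tm, map_add, scal_add, Preadditive.add_comp, Preadditive.comp_add]
      map_smul' := fun r c => by
        rw [endAlg_smul]
        change _ = (∑ a, ∑ b, dM.proj a ≫ Tm q N (c a b) ≫ dM.inj b) ≫ scal M (q.appTop r)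
        simp only [Preadditive.sum_comp, Category.assoc]
        refine Finset.sum_congr rfl fun a _ => Finset.sum_congr rfl fun b _ => ?_
        rw [← scal_nat, ← Category.assoc (Tm q N (c a b)), Tm, scal_comp, ← map_mul]
        rfl }
  have key : ∀ c a b, dM.inj a ≫ End.asHom (E c) ≫ dM.proj b = Tm q N (c a b) := fun c a b => by
    change dM.inj a ≫ (∑ a', ∑ b', dM.proj a' ≫ Tm q N (c a' b') ≫ dM.inj b') ≫ dM.proj b = _
    simp only [Preadditive.sum_comp, Preadditive.comp_sum, Category.assoc]
    rw [Finset.sum_eq_single a, Finset.sum_eq_single b, dM.inj_proj, Category.comp_id,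
      reassoc_of% (dM.inj_proj a)]
    · intro b' _ hb; rw [dM.inj_proj_ne b' b hb, comp_zero, comp_zero, comp_zero]
    · simp
    · intro a' _ ha
      refine Finset.sum_eq_zero fun b' _ => ?_
      rw [reassoc_of% (dM.inj_proj_ne a a' (Ne.symm ha)), zero_comp]
    · simp
  have hinj : Function.Injective E := fun c c' h => by
    funext a b
    have h1 := key c a b
    rw [h, key c' a b] at h1
    exact (huniq _ _ rfl).trans ((congrArg cf h1.symm).trans (huniq _ _ rfl).symm)
  have hsurj : Function.Surjective E := fun x => by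
    refine ⟨fun a b => cf (dM.inj a ≫ End.asHom x ≫ dM.proj b), ?_⟩
    change ∑ a, ∑ b, dM.proj a ≫ Tm q N (cf _) ≫ dM.inj b = End.asHom x
    simp only [← hcf, Category.assoc]
    simp only [← Preadditive.comp_sum, dM.total, Category.comp_id]
    simp only [← Category.assoc, ← Preadditive.sum_comp, dM.total, Category.id_comp]
  rw [← (LinearEquiv.ofBijective E ⟨hinj, hsurj⟩).finrank_eq, Module.finrank_pi_fintype]
  simp

end Dec

variable {k : Type u} [Field k] {X : Scheme.{u}} (p : X ⟶ Spec (CommRingCat.of k)) [IsProper p]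
  (K : Type u) [Field K] [Algebra k K]

/-- Scalars of an invertible module on `X_K`. -/
theorem existsUnique_scal (hY : Function.Surjective (W4bk4gw11416.baseChangeTo p K).appTop)
    {N : (W4bk4gw11416.baseChange p K).Modules} (hN : PicF.IsInvertible N) (hN0 : ¬ IsZero N)
    (g : N ⟶ N) :
    ∃! c : Γ(Spec (CommRingCat.of K), ⊤), g = Tm (W4bk4gw11416.baseChangeTo p K) N c := by
  let q := W4bk4gw11416.baseChangeTo p K
  letI : Field Γ(Spec (CommRingCat.of K), ⊤) := (isField_Γ K).toField
  haveI : Nontrivial (End N) := ⟨⟨0, 1, fun h => hN0 ((IsZero.iff_id_eq_zero N).mpr h.symm)⟩⟩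
  obtain ⟨r, hr⟩ := exists_eq_scal hN g
  obtain ⟨c, hc⟩ := hY r
  refine ⟨c, hr.trans (congrArg (scal N) hc.symm), fun c' hc' => ?_⟩
  refine ((scalHom N).comp q.appTop.hom).injective ?_
  exact hc'.symm.trans (by rw [hr, ← hc]; rfl)

theorem exists_iso_bc_one : Nonempty (bcMod p K (Coh.structureModule X) ≅ Coh.structureModule _) := by
  letI := PicLaw.law X
  letI := PicLaw.law (W4bk4gw11416.baseChange p K)
  refine (PicGrp.cls_eq_one_iff
    (PicLoc.isInvertible_pullback (proj p K) (PicLoc.isInvertible_structureModule X))).mp ?_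
  rw [← PicGrp.pullHom_cls (proj p K) (PicLaw.pullMul _) _ (PicLoc.isInvertible_structureModule X),
    PicGrp.cls_structureModule_eq_one, map_one]

theorem finrank_end_of_dec (hY : Function.Surjective (W4bk4gw11416.baseChangeTo p K).appTop)
    {W : X.Modules} (hW : Coh.IsCoh W) {N : (W4bk4gw11416.baseChange p K).Modules}
    (hN : PicF.IsInvertible N) (hN0 : ¬ IsZero N) {d : ℕ}
    (dW : Dec (bcMod p K W) (fun _ : Fin d => N)) :
    letI := endAlg p W
    Module.finrank Γ(Spec (CommRingCat.of k), ⊤) (End W) = d * d := by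
  haveI := hW.1
  haveI := hW.2
  haveI := compactSpace p
  letI := endAlg p W
  rw [← finrank_end_bc (sq p K) (isField_Γ k) (isField_Γ K) W]
  exact finrank_end_dec _ (isField_Γ K) dW (existsUnique_scal p K hY hN hN0)

/-- The multiplicity of a type divides that of the inverse type. -/
theorem mult_dvd [ConnectedSpace ↥(W4bk4gw11416.baseChange p K)] [Algebra.IsAlgebraic k K]
    (hY : Function.Surjective (W4bk4gw11416.baseChangeTo p K).appTop)
    {N N' : (W4bk4gw11416.baseChange p K).Modules} (hN : PicF.IsInvertible N)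
    (hN' : PicF.IsInvertible N') (eN : CohB1.tensorMod N N' ≅ Coh.structureModule _)
    {W W' : X.Modules} (hW : FlatMod.IsFinLocFree W) (hW' : FlatMod.IsFinLocFree W')
    (hWi : Indec W) {d d' : ℕ}
    (dW : Dec (bcMod p K W) (fun _ : Fin d => N)) (dW' : Dec (bcMod p K W') (fun _ : Fin d' => N')) :
    d ∣ d' := by
  classical
  haveI := isLocallyNoetherian p
  have hWc := VBLib.isCoh_of_isFinLocFree hW
  have hNi := indec_of_isInvertible hN
  have hd := pos_of_dec dW (not_isZero_bcMod p K hWc hWi.1)
  haveI := isArtinian p W hWc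
  haveI := hWi.isLocalRing
  have hunit : ∀ x : End W, IsUnit x ∨ x = 0 := fun x => by
    by_cases hx : x = 0
    · exact Or.inr hx
    obtain ⟨n, a, b, h⟩ := generates_of_isIso p K hWc (fun g hg => by
      obtain ⟨c, hc, -⟩ := existsUnique_scal p K hY hN hNi.1 g
      have hc0 : c ≠ 0 := fun h0 => hg (by rw [hc, h0, Tm, map_zero, scal_zero])
      obtain ⟨c', hc'⟩ := (isField_Γ K).mul_inv_cancel hc0
      refine ⟨⟨Tm (W4bk4gw11416.baseChangeTo p K) N c', ?_, ?_⟩⟩
      · rw [hc, Tm, Tm, scal_comp, ← map_mul, mul_comm, hc', map_one, scal_one]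
      · rw [hc, Tm, Tm, scal_comp, ← map_mul, hc', map_one, scal_one]) dW (End.asHom x) hx
    exact Or.inl (isUnit_of_generates (fun g hg => hWi.idem (End.asHom g) hg) Finset.univ
      (fun i => End.of (b i)) (fun i => End.of (a i))
      ((Finset.sum_congr rfl fun i _ => Category.assoc (a i) (End.asHom x) (b i) ▸ rfl).trans h))
  letI : DivisionRing (End W) := DivisionRing.ofIsUnitOrEqZero hunit
  letI := endAlg p W
  letI : Field Γ(Spec (CommRingCat.of k), ⊤) := (isField_Γ k).toField
  -- the trivial module `W ⊗ W'`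
  let O₁ := Coh.structureModule X
  let T := (tR W').obj W
  have dT : Dec (bcMod p K T) (fun _ : Fin (d * d') => Coh.structureModule _) := by
    have g : Dec ((tR (bcMod p K W')).obj N) (fun _ : Fin d' => Coh.structureModule _) :=
      (dW'.map (tR N)).congr (ProjTwist.tensComm (bcMod p K W') N)
        (fun _ => ProjTwist.tensComm N' N ≪≫ eN)
    exact (((dW.map (tR (bcMod p K W'))).congr (pullTens (proj p K) W W').symm
      (fun _ => Iso.refl _)).trans (fun _ => g)).reindex finProdFinEquiv.symm
  obtain ⟨e0⟩ := exists_iso_bc_one p K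
  have dP : Dec (bcMod p K (pow O₁ (d * d'))) (fun _ : Fin (d * d') => Coh.structureModule _) :=
    ((powDec (Iso.refl (pow O₁ (d * d')))).map (Scheme.Modules.pullback (proj p K))).congr (Iso.refl _)
      fun _ => e0
  have hO : FlatMod.IsFinLocFree O₁ :=
    VBLib.isFinLocFree_of_ofRank (ProjTwist.isFinLocFreeOfRank_one (PicLoc.isInvertible_structureModule X))
  have hTf : FlatMod.IsFinLocFree T := KFlat.TensorLocFree.isFinLocFree_tensM hW hW'
  obtain ⟨eT⟩ := nonempty_iso p K T (pow O₁ (d * d')) (VBLib.isCoh_of_isFinLocFree hTf)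
    (VBLib.isCoh_of_isFinLocFree (KFlat.TensorLocFree.isFinLocFree_sigma _ Finset.univ
      (fun i hi => absurd (Finset.mem_univ i) hi) fun _ => hO))
    (dP.powIso ≪≫ dT.powIso.symm).symm
  have dT0 : Dec T (fun _ : Fin (d * d') => O₁) := powDec eT
  -- its space of sections as a vector space over `End W`
  let ρ : End W →+* AddMonoid.End (O₁ ⟶ T) :=
    { toFun := fun x =>
        { toFun := fun v => v ≫ (tR W').map (End.asHom x)
          map_zero' := zero_comp
          map_add' := fun v v' => Preadditive.add_comp _ _ _ _ _ _ }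
      map_one' := by
        refine AddMonoidHom.ext fun v => ?_
        exact (congrArg (v ≫ ·) ((tR W').map_id W)).trans (Category.comp_id v)
      map_mul' := fun x y => by
        refine AddMonoidHom.ext fun v => ?_
        exact (congrArg (v ≫ ·) ((tR W').map_comp (End.asHom y) (End.asHom x))).trans
          (Category.assoc _ _ _).symm
      map_zero' := by
        refine AddMonoidHom.ext fun v => ?_
        exact (congrArg (v ≫ ·) ((tR W').map_zero W W)).trans comp_zero
      map_add' := fun x y => by
        refine AddMonoidHom.ext fun v => ?_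
        exact (congrArg (v ≫ ·) ((tR W').map_add (f := End.asHom x) (g := End.asHom y))).trans
          (Preadditive.comp_add _ _ _ _ _ _) }
  letI : Module (End W) (O₁ ⟶ T) := Module.compHom (O₁ ⟶ T) ρ
  letI : Module Γ(Spec (CommRingCat.of k), ⊤) (O₁ ⟶ T) :=
    Module.compHom (O₁ ⟶ T) (algebraMap Γ(Spec (CommRingCat.of k), ⊤) (End W))
  haveI : IsScalarTower Γ(Spec (CommRingCat.of k), ⊤) (End W) (O₁ ⟶ T) := ⟨fun c x v => by
    change (c • x) • v = (algebraMap _ (End W) c) • (x • v)
    rw [smul_smul, Algebra.smul_def]⟩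
  have hfin := finrank_end_of_dec p K hY hWc hN hNi.1 dW
  have hO1 : letI := endAlg p O₁; Module.finrank Γ(Spec (CommRingCat.of k), ⊤) (End O₁) = 1 := by
    let d1 : Dec (bcMod p K O₁) (fun _ : Fin 1 => Coh.structureModule _) :=
      { inj := fun _ => e0.inv
        proj := fun _ => e0.hom
        inj_proj := fun _ => e0.inv_hom_id
        inj_proj_ne := fun i j h => absurd (Subsingleton.elim i j) h
        total := by simp }
    exact finrank_end_of_dec p K hY (VBLib.isCoh_of_isFinLocFree hO) (PicLoc.isInvertible_structureModule _)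
      (indec_of_isInvertible (PicLoc.isInvertible_structureModule _)).1 d1
  have hV : Module.finrank Γ(Spec (CommRingCat.of k), ⊤) (O₁ ⟶ T) = d * d' := by
    letI := endAlg p O₁
    have hsmul : ∀ (c : Γ(Spec (CommRingCat.of k), ⊤)) (v : O₁ ⟶ T),
        c • v = v ≫ scal T (p.appTop c) := fun c v => by
      change v ≫ (tR W').map (scal W (p.appTop c)) = _
      rw [tR_map_scal]
    let Φ : (O₁ ⟶ T) →ₗ[Γ(Spec (CommRingCat.of k), ⊤)] (Fin (d * d') → End O₁) :=
      { toFun := fun v i => End.of (v ≫ dT0.proj i)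
        map_add' := fun v v' => funext fun i => Preadditive.add_comp _ _ _ _ _ _
        map_smul' := fun c v => funext fun i => by
          change (c • v) ≫ dT0.proj i = (v ≫ dT0.proj i) ≫ scal O₁ (p.appTop c)
          rw [hsmul, Category.assoc, Category.assoc, scal_nat] }
    have hinj : Function.Injective Φ := fun v v' h => by
      rw [← Category.comp_id v, ← Category.comp_id v', ← dT0.total, Preadditive.comp_sum,
        Preadditive.comp_sum]
      refine Finset.sum_congr rfl fun i _ => ?_
      rw [← Category.assoc, ← Category.assoc]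
      exact congrArg (· ≫ dT0.inj i) (congrFun h i)
    have hsurj : Function.Surjective Φ := fun w => by
      refine ⟨∑ i, End.asHom (w i) ≫ dT0.inj i, funext fun j => ?_⟩
      change (∑ i, End.asHom (w i) ≫ dT0.inj i) ≫ dT0.proj j = End.asHom (w j)
      rw [Preadditive.sum_comp, Finset.sum_eq_single j]
      · rw [Category.assoc, dT0.inj_proj, Category.comp_id]
      · intro i _ hi; rw [Category.assoc, dT0.inj_proj_ne i j hi, comp_zero]
      · simp
    haveI : Module.Finite Γ(Spec (CommRingCat.of k), ⊤) (End O₁) :=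
      Module.finite_of_finrank_pos (by rw [hO1]; exact one_pos)
    rw [(LinearEquiv.ofBijective Φ ⟨hinj, hsurj⟩).finrank_eq, Module.finrank_pi_fintype]
    simp [hO1]
  have hmul := Module.finrank_mul_finrank Γ(Spec (CommRingCat.of k), ⊤) (End W) (O₁ ⟶ T)
  rw [hfin, hV] at hmul
  exact ⟨Module.finrank (End W) (O₁ ⟶ T),
    Nat.eq_of_mul_eq_mul_left hd (by rw [← _root_.mul_assoc]; exact hmul.symm)⟩

end Groth.Agent.KSMod
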