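import Groth.Agent.KSMod.Tensor

/-!
# Scalars: endomorphisms of invertible modules and linearity of the tensor product
-/

set_option autoImplicit false
universe u

open CategoryTheory CategoryTheory.Limits AlgebraicGeometry Opposite TopologicalSpace
open Groth.Agent.QCoh Groth.Agent.Props.GenLocus Groth.Agent.PullStalk.Sky

noncomputable section

namespace Groth.Agent.KSMod

variable {X : Scheme.{u}}

/-- Every endomorphism of an invertible module is multiplication by a global function. -/
theorem exists_eq_scal {L : X.Modules} (hL : PicF.IsInvertible L) (φ : L ⟶ L) :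
    ∃ r : Γ(X, ⊤), φ = scal L r := by
  choose U e hU he using fun x : X => exists_isGen hL x
  choose a ha using fun x : X => ((he x).exists_eq le_rfl (φ.app (U x) (e x))).exists
  obtain ⟨r, hr⟩ := exists_glue (Coh.structureModule X) (U := U) (V := ⊤) (fun x => le_top)
    (fun x _ => Opens.mem_iSup.mpr ⟨x, hU x⟩) a (fun x y => by
      have hx : U x ⊓ U y ≤ U x := inf_le_left
      have hy : U x ⊓ U y ≤ U y := inf_le_right
      refine (he y).injective hy ?_
      have key : ∀ (z : X) (V : X.Opens) (h : V ≤ U z) (c : Γ(X, V)),
          φ.app V (c • res L h (e z)) = c • (rres h (a z) • res L h (e z)) := fun z V h c => by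
        rw [Scheme.Modules.Hom.app_smul, app_res, ha z, res_self, res_smul]
      obtain ⟨u, hu, -⟩ := (he x).exists_eq hx (res L hy (e y))
      have h1 := key y _ hy 1
      rw [one_smul, one_smul] at h1
      have h2 := key x _ hx u
      rw [← hu, smul_comm, ← hu] at h2
      exact h2.symm.trans h1)
  refine ⟨r, Scheme.Modules.hom_ext _ _ fun V => ?_⟩
  ext m
  rw [scal_app]
  refine sub_eq_zero.mp (eq_zero_of_locally_eq_zero L (U := fun x : V => V ⊓ U x.1) (fun x => inf_le_left)
    (fun x hx => Opens.mem_iSup.mpr ⟨⟨x, hx⟩, hx, hU x⟩) _ fun x => ?_)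
  obtain ⟨b, hb, -⟩ := (he x.1).exists_eq (inf_le_right : V ⊓ U x.1 ≤ U x.1) (res L inf_le_left m)
  have hr' : rres (inf_le_right : V ⊓ U x.1 ≤ U x.1) (a x.1) =
      rtop X (V ⊓ U x.1) r := by
    rw [← hr x.1]
    exact res_res (Coh.structureModule X) le_top inf_le_right r
  rw [map_sub, sub_eq_zero]
  change res L inf_le_left (φ.app V m) = res L inf_le_left (rtop X V r • m)
  rw [← app_res, hb, Scheme.Modules.Hom.app_smul, app_res, ha x.1, res_self, res_smul, hr', res_smul,
    hb, smul_comm]
  exact congrArg (· • _) (rtop_res (homOfLE (inf_le_left : V ⊓ U x.1 ≤ V)) r).symm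

open Groth.Agent.KFlat Groth.Agent.KFlat.PullTensor Groth.Agent.KFlat.StalkTensor in
/-- The tensor product is linear over global functions. -/
theorem tR_map_scal (M N : X.Modules) (r : Γ(X, ⊤)) :
    (tR N).map (scal M r) = scal ((tR N).obj M) r := by
  refine ((preAdj X.sheaf).homEquiv (tensP M N) _).injective ?_
  rw [Adjunction.homEquiv_unit, Adjunction.homEquiv_unit]
  refine PresheafOfModules.hom_ext fun U => ?_
  refine ModuleCat.hom_ext (LinearMap.ext fun z => ?_)
  induction z using TensorProduct.induction_on with
  | zero => exact (map_zero _).trans (map_zero _).symm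
  | add p q hp hq => exact (map_add _ p q).trans ((congrArg₂ (· + ·) hp hq).trans (map_add _ p q).symm)
  | tmul m n =>
    change ((tR N).map (scal M r)).app U.unop (tmulSec U.unop m n) =
      (scal ((tR N).obj M) r).app U.unop (tmulSec U.unop m n)
    rw [show (tR N).map (scal M r) = tensMap (scal M r) (𝟙 N) from
      (tensMap_id_right (scal M r) N).symm]
    refine (tensMap_tmulSec (scal M r) (𝟙 N) U.unop m n).trans ?_
    refine (congrArg (fun z => tmulSec U.unop z n) (scal_app M r U.unop m)).trans ?_
    exact tmulSec_smul_left U.unop _ m n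

end Groth.Agent.KSMod
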