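import Groth.Agent.KSMod.Invertible
import Groth.Agent.KFlat.PullTensor
import Groth.Agent.KFlat.LTensorMod

/-!
# Tensoring decompositions with invertible modules
-/

set_option autoImplicit false
universe v u v' u'

open CategoryTheory CategoryTheory.Limits AlgebraicGeometry

noncomputable section

namespace Groth.Agent.KSMod

section Generic

variable {C : Type u} [Category.{v} C] [Preadditive C] {D : Type u'} [Category.{v'} D] [Preadditive D]

/-- The image of a decomposition under an additive functor. -/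
def Dec.map {F : C} {ι : Type} [Fintype ι] {Fs : ι → C} (d : Dec F Fs) (G : C ⥤ D) [G.Additive] :
    Dec (G.obj F) (fun i => G.obj (Fs i)) where
  inj i := G.map (d.inj i)
  proj i := G.map (d.proj i)
  inj_proj i := by rw [← Functor.map_comp, d.inj_proj, CategoryTheory.Functor.map_id]
  inj_proj_ne i j h := by rw [← Functor.map_comp, d.inj_proj_ne i j h, G.map_zero]
  total := by
    simp only [← Functor.map_comp]
    rw [← G.map_sum, d.total, CategoryTheory.Functor.map_id]

/-- Transport of a decomposition along isomorphisms. -/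
def Dec.congr {F F' : C} {ι : Type} [Fintype ι] {Fs Fs' : ι → C} (d : Dec F Fs) (e : F ≅ F')
    (e' : ∀ i, Fs i ≅ Fs' i) : Dec F' Fs' where
  inj i := (e' i).inv ≫ d.inj i ≫ e.hom
  proj i := e.inv ≫ d.proj i ≫ (e' i).hom
  inj_proj i := by simp [reassoc_of% (d.inj_proj i)]
  inj_proj_ne i j h := by simp [reassoc_of% (d.inj_proj_ne i j h)]
  total := by
    simp only [Category.assoc, Iso.hom_inv_id_assoc, ← Preadditive.comp_sum]
    rw [show ∑ i, d.proj i ≫ d.inj i ≫ e.hom = e.hom by
      simp only [← Category.assoc (d.proj _), ← Preadditive.sum_comp, d.total, Category.id_comp],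
      Iso.inv_hom_id]

/-- Refinement of a decomposition. -/
def Dec.trans {F : C} {ι κ : Type} [Fintype ι] [Fintype κ] {Fs : ι → C} (d : Dec F Fs)
    {Gs : ι → κ → C} (g : ∀ i, Dec (Fs i) (Gs i)) : Dec F (fun z : ι × κ => Gs z.1 z.2) where
  inj z := (g z.1).inj z.2 ≫ d.inj z.1
  proj z := d.proj z.1 ≫ (g z.1).proj z.2
  inj_proj z := by simp [reassoc_of% (d.inj_proj z.1), (g z.1).inj_proj]
  inj_proj_ne := by
    rintro ⟨i, l⟩ ⟨j, l'⟩ h
    dsimp only
    by_cases hij : i = j
    · subst hij
      rw [Category.assoc, reassoc_of% (d.inj_proj i)]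
      exact (g i).inj_proj_ne l l' fun h' => h (Prod.ext rfl h')
    · rw [Category.assoc, reassoc_of% (d.inj_proj_ne i j hij), zero_comp, comp_zero]
  total := by
    rw [Fintype.sum_prod_type]
    refine Eq.trans (Finset.sum_congr rfl fun i _ => ?_) d.total
    simp only [Category.assoc, ← Preadditive.comp_sum]
    simp only [← Category.assoc ((g i).proj _), ← Preadditive.sum_comp, (g i).total, Category.id_comp]

/-- Reindexing of a decomposition. -/
def Dec.reindex {F : C} {ι κ : Type} [Fintype ι] [Fintype κ] {Fs : ι → C} (d : Dec F Fs) (σ : κ ≃ ι) :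
    Dec F (fun c => Fs (σ c)) where
  inj c := d.inj (σ c)
  proj c := d.proj (σ c)
  inj_proj c := d.inj_proj _
  inj_proj_ne i j h := d.inj_proj_ne _ _ (fun h' => h (σ.injective h'))
  total := (σ.sum_comp fun i => d.proj i ≫ d.inj i).trans d.total

/-- An object with indecomposable image under a functor reflecting zero objects is indecomposable. -/
theorem indec_of_map [IsIdempotentComplete C] [HasBinaryBiproducts C] [IsIdempotentComplete D]
    [HasBinaryBiproducts D] (G : C ⥤ D) [G.Additive]
    (hG : ∀ A : C, IsZero (G.obj A) → IsZero A) {M : C} (hM : Indec (G.obj M)) : Indec M := by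
  refine indec_of_idem (fun h => hM.1 (G.map_isZero h)) fun ε hε => ?_
  obtain ⟨P, Q, i, p, i', p', hip, hpi, hip', hpi', -⟩ := exists_split ε hε
  rcases hM.idem (G.map ε) (by rw [← G.map_comp, hε]) with h | h
  · left
    have hP : IsZero P := hG P ((IsZero.iff_id_eq_zero _).mpr (by
      rw [← G.map_id, ← hip, show i ≫ p = i ≫ ε ≫ p by rw [← hpi]; simp [reassoc_of% hip, hip],
        G.map_comp, G.map_comp, h, zero_comp, comp_zero]))
    rw [← hpi, hP.eq_of_tgt p 0, zero_comp]
  · right
    have hQ : IsZero Q := hG Q ((IsZero.iff_id_eq_zero _).mpr (by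
      rw [← G.map_id, ← hip', show i' ≫ p' = i' ≫ (𝟙 M - ε) ≫ p' by
          rw [← hpi']; simp [reassoc_of% hip', hip'],
        G.map_comp, G.map_comp, G.map_sub, h, G.map_id, sub_self, zero_comp, comp_zero]))
    rw [← sub_eq_zero, ← neg_sub, neg_eq_zero, ← hpi', hQ.eq_of_tgt p' 0, zero_comp]

end Generic

variable {X Y : Scheme.{u}}

/-- Tensoring with a module on the right. -/
abbrev tR (J : X.Modules) : X.Modules ⥤ X.Modules := (DCoh.tensorBi (X := X)).flip.obj J

/-- Tensoring with a module on the left is tensoring on the right. -/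
instance additive_tR (J : X.Modules) : (tR J).Additive :=
  Groth.Agent.KFlat.LTensorMod.additive_tensorBi_flip_obj J

/-- The obvious cancellation isomorphism. -/
def tCancel {J J' : X.Modules} (e : CohB1.tensorMod J J' ≅ Coh.structureModule X) (M : X.Modules) :
    (tR J').obj ((tR J).obj M) ≅ M :=
  ProjTwist.tensAssoc M J J' ≪≫ ProjTwist.tensCongr (Iso.refl M) e ≪≫ ProjTwist.tensOne M

theorem isZero_of_tR {J J' : X.Modules} (e : CohB1.tensorMod J J' ≅ Coh.structureModule X)
    (A : X.Modules) (h : IsZero ((tR J).obj A)) : IsZero A :=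
  ((tR J').map_isZero h).of_iso (tCancel e A).symm

theorem indec_of_iso {A B : X.Modules} (e : A ≅ B) (h : Indec A) : Indec B :=
  ⟨fun hB => h.1 (hB.of_iso e), fun P Q ⟨φ⟩ => h.2 P Q ⟨e ≪≫ φ⟩⟩

theorem indec_tR {J J' : X.Modules} (hJ : PicF.IsInvertible J) (hJ' : PicF.IsInvertible J')
    (e : CohB1.tensorMod J J' ≅ Coh.structureModule X) {M : X.Modules} (hM : Indec M) :
    Indec ((tR J).obj M) :=
  indec_of_map (tR J') (isZero_of_tR (J := J') (J' := J)
    (ProjTwist.tensComm J' J ≪≫ e)) (indec_of_iso (tCancel e M).symm hM)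

theorem indec_tR_iff {J J' : X.Modules} (e : CohB1.tensorMod J J' ≅ Coh.structureModule X)
    {M : X.Modules} (hM : Indec ((tR J).obj M)) : Indec M :=
  indec_of_map (tR J) (isZero_of_tR e) hM

/-- Base change of a tensor product. -/
def pullTens (f : Y ⟶ X) (M N : X.Modules) :
    (Scheme.Modules.pullback f).obj ((tR N).obj M) ≅
      (tR ((Scheme.Modules.pullback f).obj N)).obj ((Scheme.Modules.pullback f).obj M) :=
  KFlat.PullTensor.pullTensorIso f M N

/-- A constant decomposition as an isomorphism with a power. -/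
def Dec.powIso {W M : Y.Modules} {r : ℕ} (d : Dec M (fun _ : Fin r => W)) :
    M ≅ W4c1astiltbs12.pow W r :=
  haveI : HasFiniteBiproducts Y.Modules := Abelian.hasFiniteBiproducts
  d.iso ≪≫ biproduct.isoCoproduct _

theorem isInvertible_tensorPow {L : X.Modules} (hL : PicF.IsInvertible L) :
    ∀ n, PicF.IsInvertible (CohB1.tensorPow L n)
  | 0 => PicLoc.isInvertible_structureModule X
  | n + 1 => PicLaw.isInvertible_tensor (isInvertible_tensorPow hL n) hL

theorem cls_tensorPow [PicGrp.Law X] {L : X.Modules} (hL : PicF.IsInvertible L) (n : ℕ) :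
    PicGrp.cls (CohB1.tensorPow L n) (isInvertible_tensorPow hL n) = PicGrp.cls L hL ^ n :=
  Subtype.ext (PicGrp.cls_pow_val hL n).symm

theorem cls_tens [PicGrp.Law X] {L M : X.Modules} (hL : PicF.IsInvertible L) (hM : PicF.IsInvertible M) :
    PicGrp.cls (CohB1.tensorMod L M) (PicLaw.isInvertible_tensor hL hM) =
      PicGrp.cls L hL * PicGrp.cls M hM :=
  Subtype.ext (PicGrp.cls_mul_cls_val hL hM).symm

theorem exists_inverse [PicGrp.Law X] {J : X.Modules} (hJ : PicF.IsInvertible J) :
    ∃ (J' : X.Modules) (_ : PicF.IsInvertible J'),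
      Nonempty (CohB1.tensorMod J J' ≅ Coh.structureModule X) := by
  obtain ⟨J', hJ', h⟩ := PicGrp.exists_eq_cls (PicGrp.cls J hJ)⁻¹
  exact ⟨J', hJ', (PicGrp.cls_mul_cls_eq_one_iff hJ hJ').mp (by rw [← h, mul_inv_cancel])⟩

open W4c1astiltbs12

variable {k : Type u} [Field k] (p : X ⟶ Spec (CommRingCat.of k)) [IsProper p]
  (K : Type u) [Field K] [Algebra k K]

theorem isArtinian_bc (M : (W4bk4gw11416.baseChange p K).Modules) (hM : Coh.IsCoh M) :
    IsArtinianRing (End M) :=
  isArtinianRing_end K (W4bk4gw11416.baseChangeTo p K) M hM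

/-- A coherent retract of a power of an indecomposable is again one. -/
theorem exists_dec_of_retract {M N L : (W4bk4gw11416.baseChange p K).Modules} (hM : Coh.IsCoh M)
    (hL : Indec L) {ι : Type} [Fintype ι] (dN : Dec N (fun _ : ι => L)) (i : M ⟶ N) (r : N ⟶ M)
    (h : i ≫ r = 𝟙 M) : ∃ n, Nonempty (Dec M (fun _ : Fin n => L)) := by
  haveI := isArtinian_bc p K M hM
  obtain ⟨n, Hs, hHs, ⟨d⟩⟩ := exists_dec M
  have hiso : ∀ c, Nonempty (Hs c ≅ L) := fun c => by
    haveI := isArtinianRing_of_retract _ _ (d.inj_proj c)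
    haveI := (hHs c).isLocalRing
    obtain ⟨a, -, y', hy'⟩ := exists_retract_of_sum Finset.univ (fun _ : ι => L)
      (fun a => d.inj c ≫ i ≫ dN.proj a) (fun a => dN.inj a ≫ r ≫ d.proj c) (by
        simp only [Category.assoc, ← Preadditive.comp_sum]
        simp only [← Category.assoc (dN.proj _), ← Preadditive.sum_comp, dN.total, Category.id_comp,
          reassoc_of% h, d.inj_proj])
    exact iso_of_retract (hHs c).1 hL _ _ hy'
  exact ⟨n, ⟨d.congr (Iso.refl M) fun c => (hiso c).some⟩⟩

/-- The multiplicity is well defined. -/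
theorem card_eq_of_dec {M L L' : (W4bk4gw11416.baseChange p K).Modules} (hM : Coh.IsCoh M)
    (hL : Indec L) (hL' : Indec L') {m n : ℕ} (d : Dec M (fun _ : Fin m => L))
    (d' : Dec M (fun _ : Fin n => L')) : m = n := by
  haveI := isArtinian_bc p K M hM
  obtain ⟨σ, -⟩ := dec_unique (fun _ => hL) (fun _ => hL') d d'
  simpa using Fintype.card_congr σ

/-- The type is well defined. -/
theorem type_iso_of_dec {M L L' : (W4bk4gw11416.baseChange p K).Modules} (hM : Coh.IsCoh M)
    (hL : Indec L) (hL' : Indec L') {m n : ℕ} (hm : 0 < m) (d : Dec M (fun _ : Fin m => L))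
    (d' : Dec M (fun _ : Fin n => L')) : Nonempty (L ≅ L') := by
  haveI := isArtinian_bc p K M hM
  obtain ⟨σ, hσ⟩ := dec_unique (fun _ => hL) (fun _ => hL') d d'
  exact hσ ⟨0, hm⟩

end Groth.Agent.KSMod
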